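import Groth.Agent.DevissLib.Basic
import Mathlib.AlgebraicGeometry.IdealSheaf.Subscheme
import Mathlib.AlgebraicGeometry.Properties
import Mathlib.AlgebraicGeometry.FunctionField
import Mathlib.AlgebraicGeometry.Morphisms.Finite

/-!
# Integral closed subschemes and direct images of generically trivial modules
-/

set_option autoImplicit false

universe u

open CategoryTheory CategoryTheory.Limits AlgebraicGeometry TopologicalSpace Opposite

namespace DevissLib

variable {X : Scheme.{u}}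

/-- The reduced structure on a closed set. -/
theorem isReduced_vanishingIdeal' (S : Closeds X) :
    IsReduced (Scheme.IdealSheafData.vanishingIdeal S).subscheme := by
  have : ∀ i, IsReduced ((Scheme.IdealSheafData.vanishingIdeal S).subschemeCover.openCover.X i) :=
    fun (U : X.affineOpens) => by
    change IsReduced (Spec (CommRingCat.of
      (Γ(X, U) ⧸ (Scheme.IdealSheafData.vanishingIdeal S).ideal U)))
    have : _root_.IsReduced (Γ(X, U) ⧸ (Scheme.IdealSheafData.vanishingIdeal S).ideal U) :=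
      (Ideal.isRadical_iff_quotient_reduced _).1 (by
        rw [Scheme.IdealSheafData.vanishingIdeal_ideal]
        exact PrimeSpectrum.isRadical_vanishingIdeal _)
    infer_instance
  exact IsReduced.of_openCover (𝒰 := (Scheme.IdealSheafData.vanishingIdeal S).subschemeCover.openCover)

/-- An irreducible closed subset is the range of a closed immersion of an integral scheme. -/
theorem exists_integral_closed {T : Set X} (hT : IsClosed T) (hirr : IsIrreducible T) :
    ∃ (Z : Scheme.{u}) (i : Z ⟶ X), IsClosedImmersion i ∧ IsIntegral Z ∧ Set.range ⇑i = T := by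
  let I := Scheme.IdealSheafData.vanishingIdeal (⟨T, hT⟩ : Closeds X)
  have hr : Set.range ⇑I.subschemeι = T :=
    I.range_subschemeι.trans (Scheme.IdealSheafData.coe_support_vanishingIdeal ⟨T, hT⟩)
  have := isReduced_vanishingIdeal' (⟨T, hT⟩ : Closeds X)
  have hne : Nonempty I.subscheme := by
    obtain ⟨x, hx⟩ := hirr.1
    obtain ⟨z, -⟩ := hr.ge hx
    exact ⟨z⟩
  have : IrreducibleSpace I.subscheme := by
    have hi := I.subschemeι.isEmbedding
    have h : IsPreirreducible (Set.univ : Set I.subscheme) := by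
      rintro u v hu hv ⟨a, -, ha⟩ ⟨b, -, hb⟩
      obtain ⟨u', hu', rfl⟩ := hi.isInducing.isOpen_iff.mp hu
      obtain ⟨v', hv', rfl⟩ := hi.isInducing.isOpen_iff.mp hv
      obtain ⟨_, hy, hyu, hyv⟩ :=
        hirr.2 u' v' hu' hv' ⟨_, hr.le ⟨a, rfl⟩, ha⟩ ⟨_, hr.le ⟨b, rfl⟩, hb⟩
      obtain ⟨z, rfl⟩ := hr.ge hy
      exact ⟨z, trivial, hyu, hyv⟩
    exact { isPreirreducible_univ := h, toNonempty := hne }
  exact ⟨I.subscheme, I.subschemeι, inferInstance, isIntegral_of_irreducibleSpace_of_isReduced _, hr⟩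

/-- The structure sheaf is coherent. -/
theorem isCoh_structureModule (Z : Scheme.{u}) : Coh.IsCoh (Coh.structureModule Z) :=
  ⟨QCohLib.isQCoh_unit, QCohLib.isFT_of_genTop (I := PUnit.{u + 1}) (s := fun _ => (1 : Γ(Z, ⊤)))
    fun V t p hp => ⟨V, le_rfl, hp, fun _ => (t : Γ(Z, V)), by
      simp only [Finset.univ_unique, Finset.sum_singleton]
      have h1 : (Coh.structureModule Z).presheaf.map (homOfLE (le_top : V ≤ ⊤)).op (1 : Γ(Z, ⊤)) =
          (1 : Γ(Z, V)) := map_one (Z.presheaf.map (homOfLE (le_top : V ≤ ⊤)).op).hom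
      refine Eq.trans ?_ (congr_arg (fun z : Γ(Coh.structureModule Z, V) =>
        (show Γ(Z, V) from t) • z) h1).symm
      refine Eq.trans ?_ (mul_one (show Γ(Z, V) from t)).symm
      exact ConcreteCategory.congr_hom ((Coh.structureModule Z).presheaf.map_id (op V)) t⟩⟩

theorem support_push_subset {Z : Scheme.{u}} (i : Z ⟶ X) [IsClosedImmersion i] (G : Z.Modules) :
    CohB1.support ((Coh.push i).obj G) ⊆ Set.range ⇑i := by
  intro x hx
  by_contra hxr
  refine hx ((QCohLib.subsingleton_stalk_iff _ x).mpr fun W hxW t => ?_)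
  refine ⟨W ⊓ ⟨(Set.range ⇑i)ᶜ, i.isClosedEmbedding.isClosed_range.isOpen_compl⟩, inf_le_left,
    ⟨hxW, hxr⟩, ?_⟩
  refine TopCat.Presheaf.section_ext ((QCohLib.toAbF Z).obj G : TopCat.Sheaf AddCommGrpCat _)
    (i ⁻¹ᵁ (W ⊓ ⟨(Set.range ⇑i)ᶜ, i.isClosedEmbedding.isClosed_range.isOpen_compl⟩)) _ _
    fun q hq => absurd ⟨q, rfl⟩ hq.2

/-- Direct images of generically trivial modules on integral closed subschemes. -/
theorem push_generic [IsNoetherian X] {Z : Scheme.{u}} (i : Z ⟶ X) [IsClosedImmersion i]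
    [IsIntegral Z] (G : Z.Modules) (hG : Coh.IsCoh G) (V : Z.Opens) (hV : (V : Set Z).Nonempty)
    (hg : ∀ W : Z.Opens, W ≤ V → ∃ g : Γ(G, W), Function.Bijective fun r : Γ(Z, W) => r • g) :
    Coh.IsCoh ((Coh.push i).obj G) ∧ CohB1.support ((Coh.push i).obj G) = Set.range ⇑i ∧
      Nonempty (↑(((Coh.push i).obj G).presheaf.stalk (i (genericPoint Z)))
        ≃ₗ[X.presheaf.stalk (i (genericPoint Z))]
        IsLocalRing.ResidueField (X.presheaf.stalk (i (genericPoint Z)))) := by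
  set M := (Coh.push i).obj G with hMdef
  have hM : Coh.IsCoh M := QCohLib.isCoh_push_finite i G hG
  have : Coh.IsQCoh M := hM.1
  set ξ := i (genericPoint Z) with hξdef
  have hηV : genericPoint Z ∈ V := ((genericPoint_spec Z).mem_open_set_iff V.2).mpr (by simpa using hV)
  let O : X.Opens := ⟨(i '' (V : Set Z)ᶜ)ᶜ,
    (i.isClosedEmbedding.isClosedMap _ V.2.isClosed_compl).isOpen_compl⟩
  have hξO : ξ ∈ O := by
    rintro ⟨z, hz, hzi⟩
    exact hz (i.isClosedEmbedding.injective hzi ▸ hηV)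
  obtain ⟨U, hU, hξU, hUO⟩ := Opens.isBasis_iff_nbhd.mp X.isBasis_affineOpens hξO
  have hUV : i ⁻¹ᵁ U ≤ V := fun z hz => not_not.mp fun h => hUO hz ⟨z, h, rfl⟩
  obtain ⟨g, hgb⟩ := hg (i ⁻¹ᵁ U) hUV
  let s : Γ(M, U) := g
  have hsmul : ∀ r : Γ(X, U), r • s = (i.app U r • g : Γ(G, i ⁻¹ᵁ U)) := fun r =>
    QCohLib.push_smul i G r g
  have hsur : Function.Surjective (i.app U) := i.app_surjective U hU
  set p := hU.primeIdealOf ⟨ξ, hξU⟩
  have hb : ∀ r : Γ(X, U), ξ ∈ X.basicOpen r ↔ r ∉ p.asIdeal := fun r => by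
    have e := hU.fromSpec_primeIdealOf ⟨ξ, hξU⟩
    have h' : p ∈ hU.fromSpec ⁻¹ᵁ X.basicOpen r ↔ ξ ∈ X.basicOpen r := by
      change hU.fromSpec p ∈ X.basicOpen r ↔ _
      rw [e]
    rw [← h', hU.fromSpec_preimage_basicOpen]
    rfl
  -- `r` kills `s` exactly when it lies in the prime of `ξ`
  have hann : ∀ r : Γ(X, U), r • s = 0 ↔ r ∈ p.asIdeal := fun r => by
    have h0 : r • s = 0 ↔ i.app U r = 0 := by
      rw [hsmul]
      exact ⟨fun h => hgb.1 (h.trans (zero_smul _ g).symm), fun h =>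
        (congr_arg (· • g) h).trans (zero_smul _ g)⟩
    rw [h0, ← not_iff_not, ← hb, ← basicOpen_eq_bot_iff, ← Scheme.preimage_basicOpen]
    constructor
    · intro h
      have hne : ((i ⁻¹ᵁ X.basicOpen r : Z.Opens) : Set Z).Nonempty := by
        by_contra hc
        exact h (Opens.ext (Set.not_nonempty_iff_eq_empty.mp hc))
      exact ((genericPoint_spec Z).mem_open_set_iff (i ⁻¹ᵁ X.basicOpen r).2).mpr
        (by simpa using hne)
    · intro h hbot
      exact (hbot.le (show genericPoint Z ∈ i ⁻¹ᵁ X.basicOpen r from h)).elim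
  have hs0 : gm M ξ hξU s ≠ 0 := fun h => by
    obtain ⟨r, hr, hrs⟩ := (gm_eq_zero_iff hU ξ hξU s).mp h
    exact hr ((hann r).mp hrs)
  have hspan : ∀ a : (St ξ).obj M, ∃ c : X.presheaf.stalk ξ, a = c • gm M ξ hξU s := fun a => by
    obtain ⟨W, hξW, z, rfl⟩ := exists_gm_eq M ξ a
    obtain ⟨f, hfW, hξf⟩ := QCohLib.exists_basicOpen_nhd hU hξW hξU
    obtain ⟨n, m, hm⟩ := (QCohLib.localizingAt_of_isQCoh hU M f).exists_extend
      (M.presheaf.map (homOfLE hfW).op z)
    obtain ⟨c', hc'⟩ := hgb.2 m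
    obtain ⟨c, rfl⟩ := hsur c'
    obtain ⟨u, hu⟩ := ((X.mem_basicOpen f ξ hξU).mp hξf).pow n
    refine ⟨↑u⁻¹ * X.presheaf.germ U ξ hξU c, ?_⟩
    have h1 : gm M ξ hξU m = X.presheaf.germ U ξ hξU c • gm M ξ hξU s := by
      rw [← gm_smul, hsmul]
      exact congr_arg _ hc'.symm
    have h2 := congr_arg (gm M ξ hξf) hm
    rw [gm_map, gm_smul, gm_map, map_pow, TopCat.Presheaf.germ_res_apply, ← hu] at h2
    rw [mul_smul, ← h1, h2, ← mul_smul, Units.inv_mul, one_smul]
  have hsupp : ξ ∈ CohB1.support M := (mem_support_iff_nonzero M ξ).mpr ⟨_, hs0⟩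
  refine ⟨hM, Set.Subset.antisymm (support_push_subset i G) ?_, nonempty_residue_equiv _ hs0 hspan
    (maximalIdeal_smul_gm hU ξ hξU s fun a ha => by rw [(hann a).mpr ha, gm_zero])⟩
  rintro _ ⟨z, rfl⟩
  exact (((genericPoint_spec Z).specializes trivial).map i.continuous).mem_closed
    (QCohLib.isClosed_support M hM.2) hsupp

theorem exists_gen_of_iso {Z : Scheme.{u}} (G : Z.Modules) (V : Z.Opens)
    (e : G.restrict V.ι ≅ Coh.structureModule V) (W : Z.Opens) (hW : W ≤ V) :
    ∃ g : Γ(G, W), Function.Bijective fun r : Γ(Z, W) => r • g := by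
  obtain ⟨W', rfl⟩ : ∃ W' : (↑V : Scheme.{u}).Opens, V.ι ''ᵁ W' = W :=
    ⟨V.ι ⁻¹ᵁ W, by rw [V.ι.image_preimage_eq_opensRange_inf, V.opensRange_ι, inf_eq_right.mpr hW]⟩
  let g : Γ(G, V.ι ''ᵁ W') := e.inv.app W' (1 : Γ((↑V : Scheme.{u}), W'))
  have hg : ∀ r : Γ((↑V : Scheme.{u}), W'),
      e.inv.app W' r = (V.ι.appIso W').inv r • g := fun r => by
    refine (congr_arg (e.inv.app W') (mul_one r).symm).trans ?_
    exact QCohLib.app_smul e.inv W' r (1 : Γ((↑V : Scheme.{u}), W'))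
  refine ⟨g, ?_⟩
  have hbij : Function.Bijective (e.inv.app W') :=
    ConcreteCategory.bijective_of_isIso _
  have : (fun r : Γ(Z, V.ι ''ᵁ W') => r • g) = e.inv.app W' ∘ (V.ι.appIso W').hom := by
    funext r
    exact ((hg _).trans (congr_arg (· • g) (Iso.hom_inv_id_apply (V.ι.appIso W') r))).symm
  rw [this]
  exact hbij.comp (ConcreteCategory.bijective_of_isIso (V.ι.appIso W').hom)

theorem exists_gen_structureModule {Z : Scheme.{u}} (W : Z.Opens) :
    ∃ g : Γ(Coh.structureModule Z, W), Function.Bijective fun r : Γ(Z, W) => r • g := by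
  refine ⟨(1 : Γ(Z, W)), ?_⟩
  have : ∀ r : Γ(Z, W), (r • (1 : Γ(Z, W)) : Γ(Coh.structureModule Z, W)) = r := fun r => mul_one r
  exact ⟨fun a b h => (this a).symm.trans (h.trans (this b)), fun b => ⟨b, this b⟩⟩

/-- The data needed in dévissage, for a direct image. -/
theorem push_data [IsNoetherian X] {Z : Scheme.{u}} (i : Z ⟶ X) [IsClosedImmersion i]
    [IsIntegral Z] (G : Z.Modules) (hG : Coh.IsCoh G) (V : Z.Opens) (hV : (V : Set Z).Nonempty)
    (e : G.restrict V.ι ≅ Coh.structureModule V) :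
    Coh.IsCoh ((Coh.push i).obj G) ∧ CohB1.support ((Coh.push i).obj G) = Set.range ⇑i ∧
      Nonempty (↑(((Coh.push i).obj G).presheaf.stalk (i (genericPoint Z)))
        ≃ₗ[X.presheaf.stalk (i (genericPoint Z))]
        IsLocalRing.ResidueField (X.presheaf.stalk (i (genericPoint Z)))) :=
  push_generic i G hG V hV (exists_gen_of_iso G V e)

end DevissLib
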