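import Groth.Agent.DevissLib.ClosedImm
import Mathlib.CategoryTheory.Subobject.Limits
import Mathlib.CategoryTheory.Abelian.Basic

/-!
# Filtrations of coherent modules by ideal sheaves of integral closed subschemes
-/

set_option autoImplicit false

universe u

open CategoryTheory CategoryTheory.Limits AlgebraicGeometry TopologicalSpace Opposite

namespace DevissLib

variable {X : Scheme.{u}}

/-- `η` is an associated point of `M`. -/
def Asso (M : X.Modules) (η : X) : Prop :=
  ∃ a : (St η).obj M, a ≠ 0 ∧ ∀ r ∈ IsLocalRing.maximalIdeal (X.presheaf.stalk η), r • a = 0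

theorem Asso.of_mono {M N : X.Modules} (φ : M ⟶ N) [Mono φ] {η : X} (h : Asso M η) : Asso N η := by
  obtain ⟨a, ha, hk⟩ := h
  have hi : Function.Injective ((St η).map φ).hom :=
    (ModuleCat.mono_iff_injective _).mp inferInstance
  exact ⟨((St η).map φ).hom a, fun h => ha (hi (h.trans (map_zero _).symm)),
    fun r hr => by rw [← map_smul, hk r hr, map_zero]⟩

theorem Asso.mem_support {M : X.Modules} {η : X} (h : Asso M η) : η ∈ CohB1.support M :=
  (mem_support_iff_nonzero M η).mpr ⟨h.choose, h.choose_spec.1⟩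

theorem exists_asso [IsLocallyNoetherian X] {M : X.Modules} (hM : Coh.IsCoh M) {x : X}
    (hx : x ∈ CohB1.support M) : ∃ η, Asso M η := by
  have : Coh.IsQCoh M := hM.1
  obtain ⟨U, hU, hxU⟩ := QCohLib.exists_affine_nhd x
  have : IsNoetherianRing Γ(X, U) := IsLocallyNoetherian.component_noetherian ⟨U, hU⟩
  have : Nontrivial Γ(M, U) := by
    by_contra h
    rw [not_nontrivial_iff_subsingleton] at h
    have := (QCohLib.mem_support_iff hU hxU).mpr hx
    rw [Module.support_eq_empty] at this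
    exact this
  obtain ⟨p, hp⟩ := associatedPrimes.nonempty Γ(X, U) Γ(M, U)
  obtain ⟨hprime, s, hs⟩ := isAssociatedPrime_iff.mp hp
  have hs' : ∀ a, a ∈ p ↔ a • s = 0 := fun a => by
    rw [hs, Submodule.mem_colon_singleton, Submodule.mem_bot]
  let q : PrimeSpectrum Γ(X, U) := ⟨p, hprime⟩
  have hyU : hU.fromSpec q ∈ U := by
    have : hU.fromSpec q ∈ Set.range hU.fromSpec := ⟨q, rfl⟩
    rwa [hU.range_fromSpec] at this
  have hq : hU.primeIdealOf ⟨hU.fromSpec q, hyU⟩ = q :=
    hU.fromSpec.isOpenEmbedding.injective (hU.fromSpec_primeIdealOf ⟨_, hyU⟩)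
  refine ⟨hU.fromSpec q, gm M _ hyU s, fun h => ?_, maximalIdeal_smul_gm hU _ hyU s fun a ha => ?_⟩
  · obtain ⟨r, hr, hrs⟩ := (gm_eq_zero_iff hU _ hyU s).mp h
    rw [hq] at hr
    exact hr ((hs' r).mpr hrs)
  · rw [hq] at ha
    rw [(hs' a).mp ha, gm_zero]

/-- An associated point comes from a section on an affine open killed by its prime. -/
theorem exists_section_killed [IsLocallyNoetherian X] {M : X.Modules} [Coh.IsQCoh M] {U : X.Opens}
    (hU : IsAffineOpen U) {η : X} (hη : η ∈ U) (s : Γ(M, U))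
    (hk : ∀ r ∈ IsLocalRing.maximalIdeal (X.presheaf.stalk η), r • gm M η hη s = 0) :
    ∃ r : Γ(X, U), IsUnit (X.presheaf.germ U η hη r) ∧
      ∀ a ∈ (hU.primeIdealOf ⟨η, hη⟩).asIdeal, a • r • s = 0 := by
  classical
  have : IsNoetherianRing Γ(X, U) := IsLocallyNoetherian.component_noetherian ⟨U, hU⟩
  set p := hU.primeIdealOf ⟨η, hη⟩
  have hb : ∀ r : Γ(X, U), r ∉ p.asIdeal → IsUnit (X.presheaf.germ U η hη r) := fun r hr => by
    let alg := X.presheaf.algebra_section_stalk (⟨η, hη⟩ : U)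
    have hloc : IsLocalization.AtPrime (X.presheaf.stalk η) p.asIdeal :=
      hU.isLocalization_stalk ⟨η, hη⟩
    exact IsLocalization.map_units (X.presheaf.stalk η) (⟨r, hr⟩ : p.asIdeal.primeCompl)
  have hz : ∀ a ∈ p.asIdeal, ∃ r, r ∉ p.asIdeal ∧ r • a • s = 0 := fun a ha => by
    refine (gm_eq_zero_iff hU η hη (a • s)).mp ?_
    rw [gm_smul]
    refine hk _ ?_
    let alg := X.presheaf.algebra_section_stalk (⟨η, hη⟩ : U)
    have hloc : IsLocalization.AtPrime (X.presheaf.stalk η) p.asIdeal :=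
      hU.isLocalization_stalk ⟨η, hη⟩
    exact (IsLocalization.AtPrime.to_map_mem_maximal_iff (X.presheaf.stalk η) p.asIdeal a).mpr ha
  obtain ⟨T, hT⟩ := IsNoetherian.noetherian p.asIdeal
  choose f hf hfs using fun a : T => hz a.1 (hT.le (Submodule.subset_span a.2))
  refine ⟨∏ a : T, f a, hb _ fun h => ?_, fun a ha => ?_⟩
  · obtain ⟨a, -, ha⟩ := (Ideal.IsPrime.prod_mem_iff (p := p.asIdeal)).mp h
    exact hf a ha
  · rw [← hT] at ha
    induction ha using Submodule.span_induction with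
    | mem a ha =>
      have h1 : a • (∏ x : T, f x) • s =
          (∏ x ∈ Finset.univ.erase ⟨a, ha⟩, f x) • (f ⟨a, ha⟩ • a • s) := by
        rw [← Finset.mul_prod_erase Finset.univ f (Finset.mem_univ ⟨a, ha⟩), smul_smul, smul_smul,
          smul_smul]
        congr 1
        ring
      rw [h1, hfs ⟨a, ha⟩, smul_zero]
    | zero => rw [zero_smul]
    | add a b _ _ h h' => rw [add_smul, h, h', add_zero]
    | smul c a _ h => rw [smul_assoc, h, smul_zero]

/-- The germs away from the closure of `η` of a section killed by the prime of `η` vanish. -/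
theorem gm_eq_zero_of_killed {M : X.Modules} [Coh.IsQCoh M] {U : X.Opens} (hU : IsAffineOpen U)
    {η : X} (hη : η ∈ U) (s : Γ(M, U))
    (hk : ∀ a ∈ (hU.primeIdealOf ⟨η, hη⟩).asIdeal, a • s = 0) {y : X} (hy : y ∈ U)
    (h : ¬ η ⤳ y) : gm M y hy s = 0 := by
  have hle : ¬ (hU.primeIdealOf ⟨η, hη⟩).asIdeal ≤ (hU.primeIdealOf ⟨y, hy⟩).asIdeal := fun hle => by
    refine h ?_
    have := ((PrimeSpectrum.le_iff_specializes _ _).mp hle).map hU.fromSpec.continuous
    rwa [show hU.fromSpec (hU.primeIdealOf ⟨η, hη⟩) = η from hU.fromSpec_primeIdealOf ⟨η, hη⟩,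
      show hU.fromSpec (hU.primeIdealOf ⟨y, hy⟩) = y from hU.fromSpec_primeIdealOf ⟨y, hy⟩] at this
  obtain ⟨a, ha, hay⟩ := SetLike.not_le_iff_exists.mp hle
  exact (gm_eq_zero_iff hU y hy s).mpr ⟨a, hay, hk a ha⟩

/-- A submodule of the structure sheaf of an integral closed subscheme which vanishes at the
generic point is zero. -/
theorem isZero_of_mono_push {Z : Scheme.{u}} [IsIntegral Z] (i : Z ⟶ X) {N : X.Modules}
    (j : N ⟶ (Coh.push i).obj (Coh.structureModule Z)) [Mono j]
    (h : i (genericPoint Z) ∉ CohB1.support N) : IsZero N := by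
  rw [IsZero.iff_id_eq_zero]
  refine Scheme.Modules.hom_ext _ _ fun W => ConcreteCategory.hom_ext _ _ fun z => ?_
  refine QCohLib.app_injective_of_mono j W ?_
  change j.app W z = j.app W 0
  rw [map_zero]
  by_cases hW : i (genericPoint Z) ∈ W
  · obtain ⟨W', hW', hξ, hz⟩ := (QCohLib.subsingleton_stalk_iff N _).mp (not_not.mp h) W hW z
    have hz' := congr_arg (j.app W') hz
    rw [map_zero, QCohLib.app_map] at hz'
    refine germ_injective_of_isIntegral Z (genericPoint Z) hW ?_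
    refine (TopCat.Presheaf.germ_res_apply Z.presheaf
      ((Opens.map i.base).map (homOfLE hW')) (genericPoint Z) hξ _).symm.trans ?_
    refine (congr_arg _ hz').trans ?_
    exact (map_zero (Z.presheaf.germ _ _ hξ).hom).trans (map_zero (Z.presheaf.germ _ _ hW).hom).symm
  · refine TopCat.Presheaf.section_ext ((QCohLib.toAbF Z).obj (Coh.structureModule Z) :
      TopCat.Sheaf AddCommGrpCat _) (i ⁻¹ᵁ W) _ _ fun q hq =>
      absurd ?_ hW
    exact ((genericPoint_spec Z).specializes trivial).map i.continuous |>.mem_open W.2 hq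

/-- Quasi-coherent submodules of `i_* O_Z` are direct images of ideal sheaves. -/
theorem exists_ideal {Z : Scheme.{u}} (i : Z ⟶ X) [IsClosedImmersion i] {N : X.Modules}
    (j : N ⟶ (Coh.push i).obj (Coh.structureModule Z)) [Mono j] (hN : Coh.IsCoh N) :
    ∃ (I : Z.Modules) (ι : I ⟶ Coh.structureModule Z), Mono ι ∧ Coh.IsQCoh I ∧
      Nonempty (N ≅ (Coh.push i).obj I) := by
  classical
  let F := Coh.structureModule Z
  have : Coh.IsQCoh F := QCohLib.isQCoh_unit
  have : Coh.IsQCoh N := hN.1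
  let jv : ∀ (U : X.Opens), Γ(N, U) → Γ(F, i ⁻¹ᵁ U) := fun U z => j.app U z
  have jres : ∀ {U U' : X.Opens} (h : U' ≤ U) (z : Γ(N, U)),
      jv U' (N.presheaf.map (homOfLE h).op z) =
        F.presheaf.map (homOfLE (i.preimage_mono h)).op (jv U z) := fun h z =>
    QCohLib.app_map j (homOfLE h) z
  let M : ∀ V : Z.Opens, Γ(F, V) → Prop := fun V a => ∀ p ∈ V, ∃ (U : X.Opens) (h : i ⁻¹ᵁ U ≤ V)
    (z : Γ(N, U)), i p ∈ U ∧ F.presheaf.map (homOfLE h).op a = jv U z
  have hres : ∀ {V W : Z.Opens} (h : W ≤ V) {a : Γ(F, V)}, M V a →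
      M W (F.presheaf.map (homOfLE h).op a) := by
    intro V W h a ha p hp
    obtain ⟨U, hU, z, hpU, hz⟩ := ha p (h hp)
    obtain ⟨O', hO', hO''⟩ := i.isClosedEmbedding.isInducing.isOpen_iff.mp W.2
    let U' : X.Opens := U ⊓ ⟨O', hO'⟩
    have hU'W : i ⁻¹ᵁ U' ≤ W := fun q hq => hO''.le hq.2
    refine ⟨U', hU'W, N.presheaf.map (homOfLE inf_le_left).op z, ⟨hpU, hO''.ge hp⟩, ?_⟩
    rw [jres, ← hz, QCohLib.map_map', QCohLib.map_map']
    rfl
  let S : QCohLib.LocSub F :=
    { mem := M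
      zero := fun V p hp => by
        obtain ⟨O', hO', hO''⟩ := i.isClosedEmbedding.isInducing.isOpen_iff.mp V.2
        exact ⟨⟨O', hO'⟩, fun q hq => hO''.le hq, 0, hO''.ge hp, (map_zero _).trans
          (map_zero (j.app _).hom).symm⟩
      add := fun {V a b} ha hb p hp => by
        obtain ⟨U, hU, z, hpU, hz⟩ := ha p hp
        obtain ⟨U', hU', z', hpU', hz'⟩ := hb p hp
        refine ⟨U ⊓ U', (i.preimage_mono inf_le_left).trans hU,
          N.presheaf.map (homOfLE inf_le_left).op z + N.presheaf.map (homOfLE inf_le_right).op z',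
          ⟨hpU, hpU'⟩, ?_⟩
        refine Eq.trans ?_ (map_add (j.app (U ⊓ U')).hom _ _).symm
        change _ = jv _ _ + jv _ _
        rw [map_add, jres, jres, ← hz, ← hz', QCohLib.map_map', QCohLib.map_map']
        rfl
      smul := fun {V} r {a} ha p hp => by
        obtain ⟨U, hU, z, hpU, hz⟩ := ha p hp
        obtain ⟨U', hU', hpU', hU'U⟩ := Opens.isBasis_iff_nbhd.mp X.isBasis_affineOpens hpU
        obtain ⟨c, hc⟩ := i.app_surjective U' hU'
          (Z.presheaf.map (homOfLE ((i.preimage_mono hU'U).trans hU)).op r)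
        refine ⟨U', (i.preimage_mono hU'U).trans hU, c • N.presheaf.map (homOfLE hU'U).op z,
          hpU', ?_⟩
        change _ = j.app U' (c • _)
        rw [QCohLib.app_smul, QCohLib.push_smul, hc, QCohLib.map_smul']
        refine congr_arg _ ?_
        change _ = jv U' _
        rw [jres, ← hz, QCohLib.map_map']
        rfl
      res := hres
      local' := fun {V} a h p hp => by
        obtain ⟨W, hW, hpW, hm⟩ := h p hp
        obtain ⟨U, hU, z, hpU, hz⟩ := hm p hpW
        refine ⟨U, hU.trans hW, z, hpU, ?_⟩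
        rw [← hz, QCohLib.map_map']
        rfl }
  have hft : QCohLib.LocSub.FTBelow S ⊤ := by
    intro p _
    obtain ⟨U, hU, hpU⟩ := QCohLib.exists_affine_nhd (i p)
    obtain ⟨I, _, s, hs⟩ := QCohLib.exists_genOn_affine hN.2 hU
    let e : ULift.{u} (Fin (Fintype.card I)) ≃ I := Equiv.ulift.trans (Fintype.equivFin I).symm
    refine ⟨i ⁻¹ᵁ U, le_top, hpU, Fintype.card I, fun k => jv U (s (e k)), fun k q hq =>
      ⟨U, le_rfl, s (e k), hq, ConcreteCategory.congr_hom (F.presheaf.map_id _) _⟩,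
      fun O hO a ha q hqO hqU => ?_⟩
    obtain ⟨U', hU', z, hqU', hz⟩ := ha q hqO
    obtain ⟨W, hW, hWU, hqW, c, hc⟩ := hs (U' ⊓ U) inf_le_right
      (N.presheaf.map (homOfLE inf_le_left).op z) (i q) ⟨hqU', hqU⟩
    refine ⟨i ⁻¹ᵁ W, (i.preimage_mono (hW.trans inf_le_left)).trans hU',
      i.preimage_mono hWU, hqW, fun k => i.app W (c (e k)), ?_⟩
    have h1 := congr_arg (fun z => (jv W z : Γ(F, i ⁻¹ᵁ W))) hc
    simp only at h1
    rw [jres, jres, ← hz, QCohLib.map_map', QCohLib.map_map'] at h1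
    refine h1.trans ?_
    change j.app W _ = _
    rw [map_sum]
    refine Eq.trans ?_ (Equiv.sum_comp e fun k => i.app W (c k) •
      F.presheaf.map (homOfLE (i.preimage_mono hWU)).op (jv U (s k))).symm
    refine Finset.sum_congr rfl fun k _ => ?_
    rw [QCohLib.app_smul, QCohLib.push_smul]
    exact congr_arg _ (jres hWU (s k))
  have hkey : j ≫ (Coh.push i).map (cokernel.π S.ι) = 0 := by
    refine Scheme.Modules.hom_ext _ _ fun U => ConcreteCategory.hom_ext _ _ fun z => ?_
    change (cokernel.π S.ι).app (i ⁻¹ᵁ U) (jv U z) = 0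
    have hm : S.mem (i ⁻¹ᵁ U) (jv U z) := fun p hp =>
      ⟨U, le_rfl, z, hp, ConcreteCategory.congr_hom (F.presheaf.map_id _) _⟩
    rw [← S.ι_lift _ hm]
    exact congr_arg (fun θ : S.toModules ⟶ cokernel S.ι => θ.app _ (S.lift _ hm))
      (cokernel.condition S.ι)
  have : PreservesFiniteLimits (Coh.push i) :=
    have : (Coh.push i).IsRightAdjoint :=
      (Scheme.Modules.pullbackPushforwardAdjunction i).isRightAdjoint
    inferInstance
  let T : ShortComplex Z.Modules := ShortComplex.mk S.ι (cokernel.π S.ι) (cokernel.condition _)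
  have hT : IsLimit (KernelFork.ofι T.f T.zero) :=
    Abelian.monoIsKernelOfCokernel (CokernelCofork.ofπ _ (cokernel.condition S.ι))
      (cokernelIsCokernel S.ι)
  let hT' := KernelFork.mapIsLimit _ hT (Coh.push i)
  let l : N ⟶ (Coh.push i).obj S.toModules := (KernelFork.IsLimit.lift' hT' j hkey).1
  have hl : l ≫ (Coh.push i).map S.ι = j := (KernelFork.IsLimit.lift' hT' j hkey).2
  have : Mono l := mono_of_mono_fac hl
  have : Mono ((Coh.push i).map S.ι) := inferInstance
  have : Epi l := by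
    refine QCohLib.epi_of_surjective_on_affines l fun V a x hx => ?_
    by_cases hxr : x ∈ Set.range ⇑i
    · obtain ⟨p, rfl⟩ := hxr
      obtain ⟨U, hU, z, hpU, hz⟩ := S.ι_app_mem (show Γ(S.toModules, i ⁻¹ᵁ V) from a) p hx
      refine ⟨U ⊓ V, inf_le_right, ⟨hpU, hx⟩, N.presheaf.map (homOfLE inf_le_left).op z, ?_⟩
      refine QCohLib.app_injective_of_mono ((Coh.push i).map S.ι) (U ⊓ V) ?_
      refine (congr_arg (fun θ : N ⟶ _ => θ.app (U ⊓ V) _) hl).trans ?_
      change jv _ (N.presheaf.map (homOfLE (inf_le_left : U ⊓ V ≤ U)).op z) = _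
      rw [jres, ← hz, QCohLib.map_map']
      exact (QCohLib.app_map S.ι _ (show Γ(S.toModules, i ⁻¹ᵁ V) from a)).symm
    · let W : X.Opens := V ⊓ ⟨(Set.range ⇑i)ᶜ, i.isClosedEmbedding.isClosed_range.isOpen_compl⟩
      refine ⟨W, inf_le_left, ⟨hx, hxr⟩, 0, ?_⟩
      exact TopCat.Presheaf.section_ext ((QCohLib.toAbF Z).obj S.toModules :
        TopCat.Sheaf AddCommGrpCat _) (i ⁻¹ᵁ W) _ _ fun q hq => absurd ⟨q, rfl⟩ hq.2
  have : IsIso l := isIso_of_mono_of_epi l
  exact ⟨S.toModules, S.ι, inferInstance, QCohLib.LocSub.isQCoh_toModules S hft, ⟨asIso l⟩⟩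

variable [IsNoetherian X]

/-- A nonzero coherent module contains the direct image of a nonzero ideal sheaf of an integral
closed subscheme. -/
theorem exists_piece {C : X.Modules} (hC : Coh.IsCoh C) (hne : ¬ IsZero C) :
    ∃ (Z : Scheme.{u}) (i : Z ⟶ X) (I : Z.Modules) (ι : I ⟶ Coh.structureModule Z)
      (j : (Coh.push i).obj I ⟶ C),
      IsClosedImmersion i ∧ IsIntegral Z ∧ Mono ι ∧ Coh.IsQCoh I ∧ ¬ IsZero I ∧ Mono j := by
  obtain ⟨x, hx⟩ : (CohB1.support C).Nonempty := Set.nonempty_iff_ne_empty.mpr fun h =>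
    hne (isZero_of_support_empty h)
  obtain ⟨η₀, hη₀⟩ := exists_asso hC hx
  obtain ⟨T, ⟨η, hη, hT⟩, hmin⟩ := wellFounded_lt.has_min
    {T : Closeds X | ∃ η, Asso C η ∧ (T : Set X) = closure {η}}
    ⟨⟨closure {η₀}, isClosed_closure⟩, η₀, hη₀, rfl⟩
  obtain ⟨Z, i, hi, hZ, hr⟩ :=
    exists_integral_closed isClosed_closure (isIrreducible_singleton (x := η)).closure
  have hξ : i (genericPoint Z) = η := by
    refine ((genericPoint_spec Z).image i.continuous).eq ?_
    change closure {η} = closure (⇑i '' Set.univ)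
    rw [Set.image_univ, hr, closure_closure]
  subst hξ
  set G := (Coh.push i).obj (Coh.structureModule Z)
  obtain ⟨hG, hGs, ⟨e⟩⟩ := push_generic i _ (isCoh_structureModule Z) ⊤
    ⟨genericPoint Z, trivial⟩ fun W _ => exists_gen_structureModule W
  set η := i (genericPoint Z)
  obtain ⟨a, ha, hak⟩ := hη
  have : Coh.IsQCoh G := hG.1
  have : Coh.IsQCoh C := hC.1
  let b : (St η).obj G := e.symm 1
  have hb : b ≠ 0 := fun h => one_ne_zero (e.symm.injective (h.trans (map_zero e.symm).symm))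
  obtain ⟨W₁, hW₁, s₁, hs₁⟩ := exists_gm_eq C η a
  obtain ⟨W₂, hW₂, g₁, hg₁⟩ := exists_gm_eq G η b
  obtain ⟨U, hU, hηU, hUW⟩ := Opens.isBasis_iff_nbhd.mp X.isBasis_affineOpens
    (show η ∈ W₁ ⊓ W₂ from ⟨hW₁, hW₂⟩)
  have hs₂ : gm C η hηU (C.presheaf.map (homOfLE (hUW.trans inf_le_left)).op s₁) = a :=
    (gm_map C _ η hηU s₁).trans hs₁
  have hg₂ : gm G η hηU (G.presheaf.map (homOfLE (hUW.trans inf_le_right)).op g₁) = b :=
    (gm_map G _ η hηU g₁).trans hg₁
  obtain ⟨r, hru, hrk⟩ := exists_section_killed hU hηU _ (hs₂.symm ▸ hak)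
  obtain ⟨r', hru', hrk'⟩ := exists_section_killed hU hηU _
    (hg₂.symm ▸ fun c hc => smul_eq_zero_of_residue e c hc b)
  let s : Γ(C, U) := r • C.presheaf.map (homOfLE (hUW.trans inf_le_left)).op s₁
  let g : Γ(G, U) := r' • G.presheaf.map (homOfLE (hUW.trans inf_le_right)).op g₁
  have hs : gm C η hηU s ≠ 0 := by
    rw [gm_smul, hs₂]; exact fun h => ha (hru.smul_eq_zero.mp h)
  have hg : gm G η hηU g ≠ 0 := by
    rw [gm_smul, hg₂]; exact fun h => hb (hru'.smul_eq_zero.mp h)
  let v : Γ(G ⊞ C, U) := (biprod.inl : G ⟶ G ⊞ C).app U g + (biprod.inr : C ⟶ G ⊞ C).app U s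
  have hv₁ : (biprod.fst : G ⊞ C ⟶ G).app U v = g := by
    rw [map_add]
    refine (congr_arg₂ (· + ·) (congr_arg (fun φ : G ⟶ G => φ.app U g) biprod.inl_fst)
      (congr_arg (fun φ : C ⟶ G => φ.app U s) biprod.inr_fst)).trans ?_
    exact add_zero g
  have hv₂ : (biprod.snd : G ⊞ C ⟶ C).app U v = s := by
    rw [map_add]
    refine (congr_arg₂ (· + ·) (congr_arg (fun φ : G ⟶ C => φ.app U g) biprod.inl_snd)
      (congr_arg (fun φ : C ⟶ C => φ.app U s) biprod.inr_snd)).trans ?_
    exact zero_add s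
  obtain ⟨H, k, hk, hH, ⟨t, ht⟩, hst⟩ := exists_sub_through (isCoh_biprod hG hC) hU v
  -- cut down to the part supported in the closure of `η`
  let Y : X.Opens := ⟨(closure {η})ᶜ, isClosed_closure.isOpen_compl⟩
  have : NoetherianSpace (↑Y : Scheme.{u}) := Y.ι.isOpenEmbedding.isInducing.noetherianSpace
  have : QuasiCompact Y.ι := ⟨fun V _ _ => TopologicalSpace.NoetherianSpace.isCompact _⟩
  have : Coh.IsQCoh H := hH.1
  let P := (Scheme.Modules.pushforward Y.ι).obj (H.restrict Y.ι)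
  have hP : Coh.IsQCoh P := QCohLib.isQCoh_pushforward Y.ι _
  let φ : H ⟶ P := (Scheme.Modules.restrictAdjunction Y.ι).unit.app H
  have hφ : ∀ (W : X.Opens) (z : Γ(H, W)), φ.app W z =
      H.presheaf.map (homOfLE (Y.ι.image_preimage_le W)).op z := fun W z =>
    congr($(Scheme.Modules.restrictAdjunction_unit_app_app Y.ι H W) z)
  have hki : ∀ x : X, Function.Injective ((St x).map k).hom := fun x =>
    (ModuleCat.mono_iff_injective _).mp inferInstance
  have htz : φ.app U t = 0 := by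
    rw [hφ]
    refine TopCat.Presheaf.section_ext ((QCohLib.toAbF X).obj H : TopCat.Sheaf AddCommGrpCat _)
      (Y.ι ''ᵁ (Y.ι ⁻¹ᵁ U)) _ _ fun y hy => ?_
    have hyU : y ∈ U := Y.ι.image_preimage_le U hy
    have hyY : ¬ η ⤳ y := fun h' => by
      obtain ⟨w, -, rfl⟩ := hy
      exact w.2 (specializes_iff_mem_closure.mp h')
    refine Eq.trans ?_ (map_zero (H.presheaf.germ _ y hy).hom).symm
    change gm H y hy _ = 0
    rw [gm_map]
    refine hki y (Eq.trans (biprod_ext y _ ?_ ?_) (map_zero _).symm)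
    · rw [gm_app, gm_app, ht, hv₁]
      exact gm_eq_zero_of_killed hU hηU g hrk' hyU hyY
    · rw [gm_app, gm_app, ht, hv₂]
      exact gm_eq_zero_of_killed hU hηU s hrk hyU hyY
  let S₀ : ShortComplex X.Modules := ShortComplex.mk (kernel.ι φ) φ (kernel.condition φ)
  obtain ⟨t', ht'⟩ := QCohLib.exists_of_app_eq_zero (S := S₀)
    (ShortComplex.exact_of_f_is_kernel _ (kernelIsKernel φ)) inferInstance t htz
  let H' := kernel φ
  have hH' : Coh.IsCoh H' := QCohLib.isCoh_kernel φ hH hP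
  have hHY : CohB1.support H' ⊆ closure {η} := by
    intro x hx
    by_contra hxY
    refine notMem_support_kernel φ x (fun p q hpq => ?_) hx
    rw [← sub_eq_zero, ← map_sub] at hpq
    rw [← sub_eq_zero]
    obtain ⟨W, hxW, z, hz⟩ := exists_gm_eq H x (p - q)
    rw [← hz] at hpq ⊢
    rw [gm_app] at hpq
    obtain ⟨W', hxW', i₁, i₂, hW'⟩ := TopCat.Presheaf.germ_eq P.presheaf x hxW hxW (φ.app W z) 0
      (hpq.trans (gm_zero P x hxW).symm)
    rw [map_zero] at hW'
    have hW'' : φ.app W' (H.presheaf.map i₁.op z) = 0 := (QCohLib.app_map φ i₁ z).trans hW'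
    rw [hφ] at hW''
    have hxW'' : x ∈ Y.ι ''ᵁ (Y.ι ⁻¹ᵁ W') := ⟨⟨x, hxY⟩, hxW', rfl⟩
    rw [← gm_map H i₁.le x hxW', ← gm_map H (Y.ι.image_preimage_le W') x hxW'']
    exact (congr_arg (gm H x hxW'') hW'').trans (gm_zero H x hxW'')
  let k' := kernel.ι φ ≫ k
  let p₁ := k' ≫ (biprod.fst : G ⊞ C ⟶ G)
  let p₂ := k' ≫ (biprod.snd : G ⊞ C ⟶ C)
  have hkt : k'.app U t' = v := (congr_arg (fun z => k.app U z) ht').trans ht
  have hinj : Function.Injective ((St η).map k').hom :=
    (ModuleCat.mono_iff_injective _).mp inferInstance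
  have hgen : ∀ c : (St η).obj H', ∃ d : X.presheaf.stalk η, c = d • gm H' η hηU t' := fun c => by
    obtain ⟨d, hd⟩ := hst η hηU (((St η).map (kernel.ι φ)).hom c)
    refine ⟨d, hinj ?_⟩
    rw [map_smul, gm_app, hkt]
    refine Eq.trans ?_ hd
    rw [Functor.map_comp]
    rfl
  have hp₁ : ((St η).map p₁).hom (gm H' η hηU t') = gm G η hηU g := by
    rw [gm_app]
    exact congr_arg _ ((congr_arg _ hkt).trans hv₁)
  have hp₂ : ((St η).map p₂).hom (gm H' η hηU t') = gm C η hηU s := by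
    rw [gm_app]
    exact congr_arg _ ((congr_arg _ hkt).trans hv₂)
  have hvan : ∀ d ∈ IsLocalRing.maximalIdeal (X.presheaf.stalk η), d • gm H' η hηU t' = 0 := by
    intro d hd
    refine hinj ((biprod_ext η _ ?_ ?_).trans (map_zero _).symm)
    · rw [map_smul, map_smul, gm_app, gm_app, hkt, hv₁]
      exact smul_eq_zero_of_residue e d hd (gm G η hηU g)
    · rw [map_smul, map_smul, gm_app, gm_app, hkt, hv₂, gm_smul, hs₂, smul_comm, hak d hd,
        smul_zero]
  have hinj₁ : Function.Injective ((St η).map p₁).hom := fun c c' h => by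
    obtain ⟨d, rfl⟩ := hgen c
    obtain ⟨d', rfl⟩ := hgen c'
    rw [map_smul, map_smul, hp₁, ← sub_eq_zero, ← sub_smul] at h
    rw [← sub_eq_zero, ← sub_smul]
    refine hvan _ ?_
    by_contra hd
    exact hg ((IsLocalRing.notMem_maximalIdeal.mp hd).smul_eq_zero.mp h)
  have hinj₂ : Function.Injective ((St η).map p₂).hom := fun c c' h => by
    obtain ⟨d, rfl⟩ := hgen c
    obtain ⟨d', rfl⟩ := hgen c'
    rw [map_smul, map_smul, hp₂, ← sub_eq_zero, ← sub_smul] at h
    rw [← sub_eq_zero, ← sub_smul]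
    refine hvan _ ?_
    by_contra hd
    exact hs ((IsLocalRing.notMem_maximalIdeal.mp hd).smul_eq_zero.mp h)
  have hmono₁ : Mono p₁ := by
    refine Preadditive.mono_of_kernel_zero (zero_of_source_iso_zero _ ?_)
    refine IsZero.isoZero (isZero_of_support_empty (Set.eq_empty_of_forall_notMem fun y hy => ?_))
    let ρ : kernel p₁ ⟶ C := kernel.ι p₁ ≫ p₂
    have hρ : Mono ρ := Preadditive.mono_of_cancel_zero _ fun {A} w hw => by
      refine (cancel_mono (kernel.ι p₁ ≫ k')).mp ?_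
      rw [zero_comp]
      apply biprod.hom_ext
      · rw [zero_comp, Category.assoc, Category.assoc]
        exact (congr_arg (w ≫ ·) (kernel.condition p₁)).trans comp_zero
      · rw [zero_comp, Category.assoc, Category.assoc]
        exact hw
    obtain ⟨η', hη'⟩ := exists_asso (QCohLib.isCoh_kernel p₁ hH' hG.1) hy
    have hmem := hη'.mem_support
    have hη'Y : η' ∈ closure {η} := hHY (support_mono (kernel.ι p₁) hmem)
    refine hmin ⟨closure {η'}, isClosed_closure⟩ ⟨η', hη'.of_mono ρ, rfl⟩ (lt_of_le_of_ne ?_ ?_)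
    · intro z hz
      exact hT.ge (closure_minimal (Set.singleton_subset_iff.mpr hη'Y) isClosed_closure hz)
    · intro hEq
      have hcl : closure {η'} = closure {η} := (congrArg SetLike.coe hEq).trans hT
      have : η' = η := IsGenericPoint.eq (S := closure {η}) hcl rfl
      exact notMem_support_kernel p₁ η hinj₁ (this ▸ hmem)
  have hmono₂ : Mono p₂ := by
    refine Preadditive.mono_of_kernel_zero (zero_of_source_iso_zero _ ?_)
    refine IsZero.isoZero (isZero_of_mono_push i (kernel.ι p₂ ≫ p₁) ?_)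
    exact notMem_support_kernel p₂ η hinj₂
  obtain ⟨I, ι, hι, hI, ⟨eN⟩⟩ := exists_ideal i p₁ hH'
  refine ⟨Z, i, I, ι, eN.inv ≫ p₂, hi, hZ, hι, hI, fun hz => hs ?_, inferInstance⟩
  have hz' : IsZero H' := ((Coh.push i).map_isZero hz).of_iso eN
  rw [← hp₂, @Subsingleton.elim _ (ModuleCat.subsingleton_of_isZero ((St η).map_isZero hz'))
    (gm H' η hηU t') 0, map_zero]

/-- One step of the filtration. -/
theorem exists_step {M : X.Modules} (hM : Coh.IsCoh M) (K : Subobject M)
    (hK : Coh.IsQCoh (K : X.Modules)) (hne : K ≠ ⊤) :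
    ∃ (K' : Subobject M) (h : K ≤ K'), Coh.IsQCoh (K' : X.Modules) ∧ K' ≠ K ∧
      ∃ (Z : Scheme.{u}) (i : Z ⟶ X), IsClosedImmersion i ∧ IsIntegral Z ∧
        ∃ (I : Z.Modules) (ι : I ⟶ Coh.structureModule Z), Mono ι ∧ Coh.IsQCoh I ∧ ¬ IsZero I ∧
          Nonempty (cokernel (Subobject.ofLE K K' h) ≅ (Coh.push i).obj I) := by
  have hC := QCohLib.isCoh_cokernel K.arrow hK hM
  have hCne : ¬ IsZero (cokernel K.arrow) := fun hz => by
    have : Epi K.arrow := Preadditive.epi_of_cokernel_zero (hz.eq_zero_of_tgt _)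
    have : IsIso K.arrow := isIso_of_mono_of_epi _
    exact hne (Subobject.eq_top_of_isIso_arrow K)
  obtain ⟨Z, i, I, ι, j, hi, hZ, hι, hI, hI0, hj⟩ := exists_piece hC hCne
  let π := cokernel.π K.arrow
  let f : (K : X.Modules) ⟶ pullback π j :=
    pullback.lift K.arrow 0 (by rw [cokernel.condition, zero_comp])
  have hf : f ≫ pullback.fst π j = K.arrow := pullback.lift_fst _ _ _
  have hf' : f ≫ pullback.snd π j = 0 := pullback.lift_snd _ _ _
  have : Mono f := mono_of_mono_fac hf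
  let S : ShortComplex X.Modules := ShortComplex.mk f (pullback.snd π j) hf'
  have hSf : IsLimit (KernelFork.ofι S.f S.zero) := by
    refine KernelFork.IsLimit.ofι _ _ (fun {A} a ha => Abelian.monoLift K.arrow (a ≫ pullback.fst π j) ?_)
      (fun {A} a ha => ?_) (fun {A} a ha m hm => ?_)
    · change (a ≫ pullback.fst π j) ≫ π = 0
      rw [Category.assoc, pullback.condition, ← Category.assoc, ha, zero_comp]
    · refine pullback.hom_ext ?_ ?_
      · rw [Category.assoc, hf, Abelian.monoLift_comp]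
      · rw [Category.assoc, hf', comp_zero, ha]
    · rw [← cancel_mono K.arrow, Abelian.monoLift_comp, ← hm, Category.assoc, hf]
  have hS : S.ShortExact :=
    { exact := ShortComplex.exact_of_f_is_kernel _ hSf
      mono_f := inferInstanceAs (Mono f)
      epi_g := inferInstanceAs (Epi (pullback.snd π j)) }
  have : Coh.IsQCoh ((Coh.push i).obj I) := QCohLib.isQCoh_pushforward i I
  have hq : Coh.IsQCoh (pullback π j) := QCohLib.isQCoh_of_shortExact hS (h1 := hK) (h3 := this)
  let K' := Subobject.mk (pullback.fst π j)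
  have hle : K ≤ K' := by
    rw [← Subobject.mk_arrow K]
    exact Subobject.mk_le_mk_of_comm f hf
  let e := Subobject.underlyingIso (pullback.fst π j)
  have hc : Subobject.ofLE K K' hle ≫ e.hom = f := by
    rw [← cancel_mono (pullback.fst π j), Category.assoc, Subobject.underlyingIso_hom_comp_eq_mk,
      Subobject.ofLE_arrow, hf]
  have eC : cokernel f ≅ (Coh.push i).obj I :=
    (cokernelIsCokernel f).coconePointUniqueUpToIso hS.gIsCokernel
  refine ⟨K', hle, QCohLib.isQCoh_of_iso e.symm, fun hEq => hI0 ?_, Z, i, hi, hZ, I, ι, hι, hI, hI0,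
    ⟨(cokernel.mapIso _ f (Iso.refl _) e (by rw [Iso.refl_hom, Category.id_comp, hc])) ≪≫ eC⟩⟩
  have : IsIso (Subobject.ofLE K K' hle) := by
    have e2 : Subobject.ofLE K K' hle = (Subobject.isoOfEq K K' hEq.symm).hom := by
      rw [← cancel_mono K'.arrow]
      simp
    rw [e2]; infer_instance
  have : IsIso f := by rw [← hc]; infer_instance
  have hz : IsZero (cokernel f) := isZero_cokernel_of_epi f
  have hzi : IsZero ((Coh.push i).obj I) := hz.of_iso eC.symm
  refine isZero_of_support_empty (Set.eq_empty_of_forall_notMem fun z hz' => ?_)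
  refine hz' ((QCohLib.subsingleton_stalk_iff I z).mpr fun W hzW w => ?_)
  obtain ⟨O', hO', hO''⟩ := i.isClosedEmbedding.isInducing.isOpen_iff.mp W.2
  refine ⟨i ⁻¹ᵁ ⟨O', hO'⟩, fun q hq => hO''.le hq, hO''.ge hzW, ?_⟩
  exact congr_arg (fun θ : (Coh.push i).obj I ⟶ (Coh.push i).obj I =>
    θ.app ⟨O', hO'⟩ (show Γ((Coh.push i).obj I, ⟨O', hO'⟩) from
      I.presheaf.map (homOfLE (fun q hq => hO''.le hq)).op w))
    ((IsZero.iff_id_eq_zero _).mp hzi)

/-- **Filtration of a coherent module.** -/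
theorem exists_filtration {M : X.Modules} (hM : Coh.IsCoh M) :
    ∃ (m : ℕ) (F : ℕ → X.Modules) (φ : (j : ℕ) → (F j ⟶ F (j + 1))),
      IsZero (F 0) ∧ Nonempty (F m ≅ M) ∧ (∀ j ≤ m, Coh.IsCoh (F j)) ∧ ∀ j < m, Mono (φ j) ∧
        ∃ (Z : Scheme.{u}) (i : Z ⟶ X), IsClosedImmersion i ∧ IsIntegral Z ∧
          ∃ (I : Z.Modules) (ι : I ⟶ Coh.structureModule Z), Mono ι ∧ Coh.IsQCoh I ∧ ¬ IsZero I ∧
            Nonempty (cokernel (φ j) ≅ (Coh.push i).obj I) := by
  classical
  let T := {K : Subobject M // Coh.IsQCoh (K : X.Modules)}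
  choose nx hle hq hne hpiece using fun (K : T) (h : K.1 ≠ ⊤) => exists_step hM K.1 K.2 h
  let step : T → T := fun K => if h : K.1 = ⊤ then K else ⟨nx K h, hq K h⟩
  have hstep : ∀ K : T, K.1 ≤ (step K).1 := fun K => by
    by_cases h : K.1 = ⊤
    · simp [step, h]
    · simp only [step, h, dite_false]
      exact hle K h
  let K₀ : T := ⟨⊥, QCohLib.isQCoh_of_isZero ((isZero_zero _).of_iso Subobject.botCoeIsoZero)⟩
  let F : ℕ → T := fun n => step^[n] K₀
  have hF : ∀ n, F (n + 1) = step (F n) := fun n => Function.iterate_succ_apply' step n K₀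
  have hmono : Monotone fun n => (F n).1 := monotone_nat_of_le_succ fun n => by
    simp only [hF]
    exact hstep _
  obtain ⟨n, hn⟩ := QCohLib.acc_subobjects M hM ⟨fun n => (F n).1, hmono⟩ fun n => (F n).2
  have hex : ∃ n, (F n).1 = ⊤ := ⟨n, by
    by_contra h
    refine hne (F n) h ?_
    have := hn (n + 1) n.le_succ
    simp only [OrderHom.coe_mk, hF] at this
    simpa only [step, h, dite_false] using this⟩
  refine ⟨Nat.find hex, fun j => ((F j).1 : X.Modules),
    fun j => Subobject.ofLE _ _ (hmono j.le_succ), (isZero_zero _).of_iso Subobject.botCoeIsoZero,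
    ?_, fun j _ => QCohLib.isCoh_of_mono (F j).1.arrow hM (F j).2, fun j hj => ⟨inferInstance, ?_⟩⟩
  · have := (Subobject.isIso_arrow_iff_eq_top _).mpr (Nat.find_spec hex)
    exact ⟨asIso (F (Nat.find hex)).1.arrow⟩
  · have h := Nat.find_min hex hj
    have e : (F (j + 1)).1 = nx (F j) h := by simp only [hF, step, h, dite_false]
    obtain ⟨Z, i, hi, hZ, I, ι, hι, hI, hI0, ⟨eI⟩⟩ := hpiece (F j) h
    refine ⟨Z, i, hi, hZ, I, ι, hι, hI, hI0, ⟨cokernel.mapIso _ _ (Iso.refl _)
      (Subobject.isoOfEq _ _ e) ?_ ≪≫ eI⟩⟩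
    rw [← cancel_mono (nx (F j) h).arrow]
    simp

end DevissLib
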