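import Groth.Agent.DevissLib.ClosedImm
import Mathlib.AlgebraicGeometry.Morphisms.Finite

/-!
# Direct images of structure sheaves of integral schemes along finite morphisms
-/

set_option autoImplicit false

universe u

open CategoryTheory CategoryTheory.Limits AlgebraicGeometry TopologicalSpace Opposite

namespace DevissLib

variable {X : Scheme.{u}}

theorem push_structure_finite [IsLocallyNoetherian X] {Z : Scheme.{u}} (g : Z ⟶ X) [IsFinite g]
    [IsIntegral Z] :
    Coh.IsCoh ((Coh.push g).obj (Coh.structureModule Z)) ∧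
      CohB1.support ((Coh.push g).obj (Coh.structureModule Z)) = Set.range ⇑g ∧
      ∀ r ∈ IsLocalRing.maximalIdeal (X.presheaf.stalk (g (genericPoint Z))),
        ∀ a : (St (g (genericPoint Z))).obj ((Coh.push g).obj (Coh.structureModule Z)), r • a = 0 := by
  set M := (Coh.push g).obj (Coh.structureModule Z)
  set ξ := g (genericPoint Z)
  have hM : Coh.IsCoh M := QCohLib.isCoh_push_finite g _ (isCoh_structureModule Z)
  have : Coh.IsQCoh M := hM.1
  -- basic opens on an affine containing `ξ`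
  have key : ∀ {U : X.Opens} (hU : IsAffineOpen U) (hξ : ξ ∈ U) (r : Γ(X, U)),
      g.app U r = 0 ↔ r ∈ (hU.primeIdealOf ⟨ξ, hξ⟩).asIdeal := fun {U} hU hξ r => by
    have h' : hU.primeIdealOf ⟨ξ, hξ⟩ ∈ hU.fromSpec ⁻¹ᵁ X.basicOpen r ↔ ξ ∈ X.basicOpen r := by
      change hU.fromSpec (hU.primeIdealOf ⟨ξ, hξ⟩) ∈ X.basicOpen r ↔ _
      rw [hU.fromSpec_primeIdealOf ⟨ξ, hξ⟩]
    rw [← not_iff_not]
    have h2 : ξ ∈ X.basicOpen r ↔ r ∉ (hU.primeIdealOf ⟨ξ, hξ⟩).asIdeal := by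
      rw [← h', hU.fromSpec_preimage_basicOpen]
      rfl
    rw [← h2, ← basicOpen_eq_bot_iff, ← Scheme.preimage_basicOpen]
    constructor
    · intro h
      have hne : ((g ⁻¹ᵁ X.basicOpen r : Z.Opens) : Set Z).Nonempty := by
        by_contra hc
        exact h (Opens.ext (Set.not_nonempty_iff_eq_empty.mp hc))
      exact ((genericPoint_spec Z).mem_open_set_iff (g ⁻¹ᵁ X.basicOpen r).2).mpr
        (by simpa using hne)
    · intro h hbot
      exact (hbot.le (show genericPoint Z ∈ g ⁻¹ᵁ X.basicOpen r from h)).elim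
  obtain ⟨U, hU, hξU⟩ := QCohLib.exists_affine_nhd ξ
  let one : Γ(M, U) := (1 : Γ(Z, g ⁻¹ᵁ U))
  have hmem : ξ ∈ CohB1.support M := (mem_support_iff_nonzero M ξ).mpr ⟨gm M ξ hξU one, fun h => by
    obtain ⟨r, hr, hr0⟩ := (gm_eq_zero_iff hU ξ hξU one).mp h
    refine hr ((key hU hξU r).mp ?_)
    exact (mul_one _).symm.trans ((QCohLib.push_smul g (Coh.structureModule Z) r one).symm.trans hr0)⟩
  refine ⟨hM, Set.Subset.antisymm (fun x hx => ?_) ?_, fun r hr a => ?_⟩
  · by_contra hxr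
    refine hx ((QCohLib.subsingleton_stalk_iff _ x).mpr fun W hxW t => ?_)
    refine ⟨W ⊓ ⟨(Set.range ⇑g)ᶜ, g.isClosedMap.isClosed_range.isOpen_compl⟩, inf_le_left,
      ⟨hxW, hxr⟩, ?_⟩
    exact TopCat.Presheaf.section_ext ((QCohLib.toAbF Z).obj (Coh.structureModule Z) :
      TopCat.Sheaf AddCommGrpCat _)
      (g ⁻¹ᵁ (W ⊓ ⟨(Set.range ⇑g)ᶜ, g.isClosedMap.isClosed_range.isOpen_compl⟩)) _ _
      fun q hq => absurd ⟨q, rfl⟩ hq.2
  · rintro _ ⟨z, rfl⟩
    exact (((genericPoint_spec Z).specializes trivial).map g.continuous).mem_closed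
      (QCohLib.isClosed_support M hM.2) hmem
  · obtain ⟨W, hξW, s, rfl⟩ := exists_gm_eq M ξ a
    obtain ⟨V, hV, hξV, hVW⟩ := Opens.isBasis_iff_nbhd.mp X.isBasis_affineOpens hξW
    rw [← gm_map M hVW ξ hξV]
    refine maximalIdeal_smul_gm hV ξ hξV _ (fun b hb => ?_) r hr
    have h0 : b • M.presheaf.map (homOfLE hVW).op s = 0 := by
      refine (QCohLib.push_smul g (Coh.structureModule Z) b _).trans ?_
      rw [(key hV hξV b).mpr hb]
      exact zero_smul Γ(Z, g ⁻¹ᵁ V) (A := Γ(Coh.structureModule Z, g ⁻¹ᵁ V)) _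
    rw [h0, gm_zero]

end DevissLib
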