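import Groth.Agent.DevissLib.Basic
import Mathlib.Topology.Sober

/-!
# Dévissage for the two-out-of-three property
-/

set_option autoImplicit false

universe u

open CategoryTheory CategoryTheory.Limits AlgebraicGeometry TopologicalSpace Opposite

namespace DevissLib

variable {X : Scheme.{u}}

/-- The stalk of a coherent module on a locally Noetherian scheme is Noetherian. -/
theorem isNoetherian_stalk [IsLocallyNoetherian X] {M : X.Modules} (hM : Coh.IsCoh M) (x : X) :
    _root_.IsNoetherian (X.presheaf.stalk x) ((St x).obj M) := by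
  classical
  have : Coh.IsQCoh M := hM.1
  obtain ⟨U, hU, hx⟩ := QCohLib.exists_affine_nhd x
  obtain ⟨I, _, s, hs⟩ := QCohLib.exists_genOn_affine hM.2 hU
  have : Module.Finite (X.presheaf.stalk x) ((St x).obj M) := by
    refine ⟨⟨Finset.univ.image fun i => gm M x hx (s i), eq_top_iff.mpr fun a _ => ?_⟩⟩
    obtain ⟨W, hxW, z, rfl⟩ := exists_gm_eq M x a
    obtain ⟨O, hO, hOU, hxO, c, hc⟩ := hs (W ⊓ U) inf_le_right
      (M.presheaf.map (homOfLE inf_le_left).op z) x ⟨hxW, hx⟩
    rw [← gm_map M (inf_le_left : W ⊓ U ≤ W) x ⟨hxW, hx⟩, ← gm_map M hO x hxO, hc]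
    have hsum : gm M x hxO (∑ i, c i • M.presheaf.map (homOfLE hOU).op (s i)) =
        ∑ i, gm M x hxO (c i • M.presheaf.map (homOfLE hOU).op (s i)) :=
      map_sum (M.presheaf.germ O x hxO).hom _ _
    rw [hsum]
    refine Submodule.sum_mem _ fun i _ => ?_
    rw [gm_smul, gm_map M hOU x hxO]
    exact Submodule.smul_mem _ _ (Submodule.subset_span (by simp))
  infer_instance

variable [IsNoetherian X] (P : X.Modules → Prop)
  (hP : ∀ M N : X.Modules, Nonempty (M ≅ N) → P M → P N) (Y : Set X)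
  (h₁ : ∀ S : ShortComplex X.Modules, S.ShortExact → Coh.IsCoh S.X₁ → Coh.IsCoh S.X₂ →
    Coh.IsCoh S.X₃ → CohB1.support S.X₂ ⊆ Y →
    (P S.X₁ → P S.X₂ → P S.X₃) ∧ (P S.X₁ → P S.X₃ → P S.X₂) ∧ (P S.X₂ → P S.X₃ → P S.X₁))

include h₁ in
omit [AlgebraicGeometry.IsNoetherian X] in
theorem zero_of_one {G : X.Modules} (hG : Coh.IsCoh G) (hGY : CohB1.support G ⊆ Y) (hPG : P G)
    {M : X.Modules} (hM : IsZero M) : P M := by
  let S : ShortComplex X.Modules := ShortComplex.mk (𝟙 G) (0 : G ⟶ M) comp_zero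
  have hS : S.ShortExact :=
    { exact := (ShortComplex.exact_iff_epi _ rfl).mpr inferInstance
      mono_f := inferInstanceAs (Mono (𝟙 G))
      epi_g := (IsZero.iff_id_eq_zero _).mp hM |> fun h => ⟨fun a b _ => hM.eq_of_src a b⟩ }
  exact (h₁ S hS hG hG (isCoh_of_isZero hM) hGY).1 hPG hPG

include h₁ in
/-- Invariance under maps which are isomorphisms at the generic point. -/
theorem iff_of_bijective {T : Set X} (hTY : T ⊆ Y) {η : X}
    (ih : ∀ N : X.Modules, Coh.IsCoh N → CohB1.support N ⊆ T → η ∉ CohB1.support N → P N)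
    {A B : X.Modules} (hA : Coh.IsCoh A) (hB : Coh.IsCoh B) (hAT : CohB1.support A ⊆ T)
    (hBT : CohB1.support B ⊆ T) (φ : A ⟶ B) (h : Function.Bijective ((St η).map φ).hom) :
    P A ↔ P B := by
  have hK := QCohLib.isCoh_kernel φ hA hB.1
  have hC := QCohLib.isCoh_cokernel φ hA.1 hB
  have hI := isCoh_image φ hA hB
  have hPK : P (kernel φ) := ih _ hK ((support_mono (kernel.ι φ)).trans hAT)
    (notMem_support_kernel φ η h.1)
  have hPC : P (cokernel φ) := ih _ hC ((support_epi (cokernel.π φ)).trans hBT)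
    (notMem_support_cokernel φ η h.2)
  have h1 := h₁ _ (kerImSeq_shortExact φ) hK hA hI (hAT.trans hTY)
  have h2 := h₁ _ (imCokSeq_shortExact φ) hI hB hC (hBT.trans hTY)
  exact ⟨fun hPA => h2.2.1 (h1.1 hPK hPA) hPC, fun hPB => h1.2.1 hPK (h2.2.2 hPB hPC)⟩

include h₁ in
/-- The step at an irreducible closed set. -/
theorem irreducible_step {T : Set X} (hTY : T ⊆ Y) {η : X}
    (hgen : ∀ y ∈ T, y ⤳ η → y = η)
    (ih : ∀ N : X.Modules, Coh.IsCoh N → CohB1.support N ⊆ T → η ∉ CohB1.support N → P N)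
    {G : X.Modules} (hG : Coh.IsCoh G) (hGT : CohB1.support G ⊆ T)
    (e : (St η).obj G ≃ₗ[X.presheaf.stalk η] IsLocalRing.ResidueField (X.presheaf.stalk η))
    (hPG : P G) {M : X.Modules} (hM : Coh.IsCoh M) (hMT : CohB1.support M ⊆ T) : P M := by
  have : _root_.IsNoetherian (X.presheaf.stalk η) ((St η).obj M) := isNoetherian_stalk hM η
  suffices key : ∀ (N : Submodule (X.presheaf.stalk η) ((St η).obj M)) (M' : X.Modules),
      Coh.IsCoh M' → CohB1.support M' ⊆ T →
      ∀ q : (St η).obj M →ₗ[X.presheaf.stalk η] (St η).obj M', Function.Surjective q →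
        LinearMap.ker q = N → P M' from
    key _ M hM hMT LinearMap.id Function.surjective_id rfl
  intro N
  induction N using WellFoundedGT.induction with
  | _ N IH =>
  intro M' hM' hM'T q hq hN
  by_cases hη : η ∈ CohB1.support M'
  swap
  · exact ih M' hM' hM'T hη
  obtain ⟨H, p₁, p₂, hH, hHsupp, hb, hinj, a, ha⟩ := exists_bridge hG hM'
    (fun y hy => hgen y (hGT hy)) (fun y hy => hgen y (hM'T hy)) e hη
  have hHT : CohB1.support H ⊆ T := hHsupp.trans (Set.union_subset hGT hM'T)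
  have hPH : P H := (iff_of_bijective P Y h₁ hTY ih hH hG hHT hGT p₁ hb).mpr hPG
  have hK := QCohLib.isCoh_kernel p₂ hH hM'.1
  have hC := QCohLib.isCoh_cokernel p₂ hH.1 hM'
  have hI := isCoh_image p₂ hH hM'
  have hPK : P (kernel p₂) := ih _ hK ((support_mono (kernel.ι p₂)).trans hHT)
    (notMem_support_kernel p₂ η hinj)
  have hPI : P (Abelian.image p₂) :=
    (h₁ _ (kerImSeq_shortExact p₂) hK hH hI (hHT.trans hTY)).1 hPK hPH
  have hπ : Function.Surjective ((St η).map (cokernel.π p₂)).hom :=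
    (ModuleCat.epi_iff_surjective _).mp inferInstance
  have hlt : N < LinearMap.ker (((St η).map (cokernel.π p₂)).hom.comp q) := by
    refine lt_of_le_of_ne (fun m hm => ?_) fun h => ?_
    · rw [← hN] at hm
      change ((St η).map (cokernel.π p₂)).hom (q m) = 0
      rw [LinearMap.mem_ker.mp hm, map_zero]
    · obtain ⟨m, hm⟩ := hq (((St η).map p₂).hom a)
      have hmem : m ∈ LinearMap.ker (((St η).map (cokernel.π p₂)).hom.comp q) := by
        change ((St η).map (cokernel.π p₂)).hom (q m) = 0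
        rw [hm]
        have := congr_arg (fun ψ => ψ.hom a) (congr_arg (St η).map (cokernel.condition p₂))
        simpa only [Functor.map_comp, Functor.map_zero, ModuleCat.hom_comp, ModuleCat.hom_zero,
          LinearMap.comp_apply, LinearMap.zero_apply] using this
      rw [← h, ← hN] at hmem
      exact ha (hm.symm.trans hmem)
  have hPC : P (cokernel p₂) := IH _ hlt (cokernel p₂) hC
    ((support_epi (cokernel.π p₂)).trans hM'T) _ (hπ.comp hq) rfl
  exact (h₁ _ (imCokSeq_shortExact p₂) hI hM' hC (hM'T.trans hTY)).2.1 hPI hPC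

include hP h₁ in
/-- **Dévissage.** -/
theorem devissage (hne : Y.Nonempty)
    (hG : ∀ η ∈ Y, closure {η} ⊆ Y → ∃ G : X.Modules, Coh.IsCoh G ∧
      CohB1.support G = closure {η} ∧
      Nonempty (↑(G.presheaf.stalk η) ≃ₗ[X.presheaf.stalk η]
        IsLocalRing.ResidueField (X.presheaf.stalk η)) ∧ P G)
    (hY : IsClosed Y) (M : X.Modules) (hM : Coh.IsCoh M) (hMY : CohB1.support M ⊆ Y) : P M := by
  suffices key : ∀ T : Closeds X, (T : Set X) ⊆ Y → ∀ M : X.Modules, Coh.IsCoh M →
      CohB1.support M ⊆ T → P M from key ⟨Y, hY⟩ le_rfl M hM hMY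
  intro T
  induction T using WellFoundedLT.induction with
  | _ T IH =>
  intro hTY M hM hMT
  rcases (T : Set X).eq_empty_or_nonempty with hT | hT
  · obtain ⟨η, hη⟩ := hne
    obtain ⟨G, hGc, hGs, -, hPG⟩ := hG η hη (hY.closure_subset_iff.mpr (by simpa using hη))
    exact zero_of_one P Y h₁ hGc (hGs.le.trans (hY.closure_subset_iff.mpr (by simpa using hη)))
      hPG (isZero_of_support_empty (Set.eq_empty_of_subset_empty (hT ▸ hMT)))
  by_cases hirr : IsIrreducible (T : Set X)
  · let η := hirr.genericPoint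
    have hη : closure {η} = (T : Set X) := by
      rw [hirr.isGenericPoint_genericPoint_closure.def, T.isClosed.closure_eq]
    have hηT : η ∈ (T : Set X) := hη ▸ subset_closure rfl
    obtain ⟨G, hGc, hGs, ⟨e⟩, hPG⟩ := hG η (hTY hηT) (hη ▸ hTY)
    refine irreducible_step P Y h₁ hTY (η := η) (fun y hy h => (h.antisymm (specializes_iff_mem_closure.mpr (hη.symm ▸ hy : y ∈ closure {η}))).eq)
      (fun N hN hNT hηN => ?_) hGc (hGs.trans hη).le e hPG hM hMT
    let T' : Closeds X := ⟨CohB1.support N, QCohLib.isClosed_support N hN.2⟩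
    exact IH T' (lt_of_le_of_ne hNT fun h => hηN ((congrArg SetLike.coe h).ge hηT))
      (hNT.trans hTY) N hN le_rfl
  · have hpre : ¬ IsPreirreducible (T : Set X) := fun h => hirr ⟨hT, h⟩
    rw [isPreirreducible_iff_isClosed_union_isClosed] at hpre
    push Not at hpre
    obtain ⟨z₁, z₂, hz₁, hz₂, hsub, hn₁, hn₂⟩ := hpre
    let T₁ : Closeds X := ⟨T ∩ z₁, T.isClosed.inter hz₁⟩
    let T₂ : Closeds X := ⟨T ∩ z₂, T.isClosed.inter hz₂⟩
    have h₁' : T₁ < T := lt_of_le_of_ne Set.inter_subset_left fun h =>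
      hn₁ fun x hx => ((congrArg SetLike.coe h).ge hx).2
    have h₂' : T₂ < T := lt_of_le_of_ne Set.inter_subset_left fun h =>
      hn₂ fun x hx => ((congrArg SetLike.coe h).ge hx).2
    obtain ⟨S, hS, ⟨i⟩, hc₁, hc₃, hs₁, hs₃⟩ := exists_split hM T₁.isClosed T₂.isClosed
      (fun x hx => (hsub (hMT hx)).imp (fun h => ⟨hMT hx, h⟩) fun h => ⟨hMT hx, h⟩)
    have hPS : P S.X₂ := (h₁ S hS hc₁ (QCohLib.isCoh_of_iso i.symm hM) hc₃
      ((support_iso i).le.trans (hMT.trans hTY))).2.1
      (IH T₂ h₂' (Set.inter_subset_left.trans hTY) _ hc₁ hs₁)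
      (IH T₁ h₁' (Set.inter_subset_left.trans hTY) _ hc₃ hs₃)
    exact hP _ _ ⟨i⟩ hPS

end DevissLib
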