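import Groth.Prelude.Def_FlatMod2
import Groth.Agent.KFlatLib.Stalk
import Groth.Agent.QCohLib.Support
import Mathlib.RingTheory.Ideal.AssociatedPrime.Localization
import Mathlib.AlgebraicGeometry.Noetherian

/-!
# Supports and stalks of modules, for dévissage
-/

set_option autoImplicit false

universe u

open CategoryTheory CategoryTheory.Limits AlgebraicGeometry TopologicalSpace Opposite

namespace DevissLib

variable {X : Scheme.{u}}

/-- The stalk functor. -/
noncomputable abbrev St (x : X) : X.Modules ⥤ ModuleCat.{u} (X.presheaf.stalk x) :=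
  DerSch.stalkFunctor X x

/-- The germ of a section, as an element of the stalk module. -/
noncomputable abbrev gm (M : X.Modules) {U : X.Opens} (x : X) (hx : x ∈ U) (s : Γ(M, U)) :
    (St x).obj M :=
  M.presheaf.germ U x hx s

theorem gm_smul (M : X.Modules) {U : X.Opens} (x : X) (hx : x ∈ U) (r : Γ(X, U)) (s : Γ(M, U)) :
    gm M x hx (r • s) = X.presheaf.germ U x hx r • gm M x hx s :=
  PresheafOfModules.germ_smul (R := X.presheaf)
    (show PresheafOfModules (X.presheaf ⋙ forget₂ CommRingCat RingCat) from M.val) x U hx r s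

theorem gm_zero (M : X.Modules) {U : X.Opens} (x : X) (hx : x ∈ U) :
    gm M x hx (0 : Γ(M, U)) = 0 :=
  map_zero (M.presheaf.germ U x hx).hom

theorem gm_map (M : X.Modules) {U V : X.Opens} (h : V ≤ U) (x : X) (hx : x ∈ V) (s : Γ(M, U)) :
    gm M x hx (M.presheaf.map (homOfLE h).op s) = gm M x (h hx) s :=
  TopCat.Presheaf.germ_res_apply M.presheaf (homOfLE h) x hx s

theorem gm_app {M N : X.Modules} (φ : M ⟶ N) {U : X.Opens} (x : X) (hx : x ∈ U) (s : Γ(M, U)) :
    ((St x).map φ).hom (gm M x hx s) = gm N x hx (φ.app U s) :=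
  DerSch.stalkFunctor_map_germ x φ U hx s

theorem exists_gm_eq (M : X.Modules) (x : X) (a : (St x).obj M) :
    ∃ (U : X.Opens) (hx : x ∈ U) (s : Γ(M, U)), gm M x hx s = a :=
  TopCat.Presheaf.exists_germ_eq M.presheaf (x := x) a

theorem notMem_support_iff (M : X.Modules) (x : X) :
    x ∉ CohB1.support M ↔ IsZero ((St x).obj M) := by
  rw [ModuleCat.isZero_iff_subsingleton]
  exact not_not

theorem mem_support_iff_nonzero (M : X.Modules) (x : X) :
    x ∈ CohB1.support M ↔ ∃ a : (St x).obj M, a ≠ 0 := by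
  constructor
  · intro h
    by_contra hc
    exact h ⟨fun a b => (not_not.mp fun ha => hc ⟨a, ha⟩).trans
      (not_not.mp fun hb => hc ⟨b, hb⟩).symm⟩
  · rintro ⟨a, ha⟩ h
    exact ha (@Subsingleton.elim _ h a 0)

theorem support_mono {M N : X.Modules} (φ : M ⟶ N) [Mono φ] :
    CohB1.support M ⊆ CohB1.support N := fun x hx h =>
  have : Mono ((St x).map φ) := inferInstance
  hx (@Function.Injective.subsingleton _ _ _ ((ModuleCat.mono_iff_injective _).mp this) h)

theorem support_epi {M N : X.Modules} (φ : M ⟶ N) [Epi φ] :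
    CohB1.support N ⊆ CohB1.support M := fun x hx h =>
  have : Epi ((St x).map φ) := inferInstance
  hx (@Function.Surjective.subsingleton _ _ _ h ((ModuleCat.epi_iff_surjective _).mp this))

theorem support_iso {M N : X.Modules} (e : M ≅ N) : CohB1.support M = CohB1.support N :=
  Set.Subset.antisymm (support_mono e.hom) (support_mono e.inv)

theorem support_of_isZero {M : X.Modules} (h : IsZero M) : CohB1.support M = ∅ := by
  ext x
  simp only [Set.mem_empty_iff_false, iff_false]
  exact (notMem_support_iff M x).mpr ((St x).map_isZero h)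

theorem isZero_of_support_empty {M : X.Modules} (h : CohB1.support M = ∅) : IsZero M :=
  KFlatLib.isZero_of_stalks fun x => not_not.mp fun hx => (h.le (hx : x ∈ CohB1.support M) : x ∈ (∅ : Set X)).elim

/-- An element of the stalk of a biproduct vanishes when both components do. -/
theorem biprod_ext {A B : X.Modules} (x : X) (a : (St x).obj (A ⊞ B))
    (h₁ : ((St x).map (biprod.fst : A ⊞ B ⟶ A)).hom a = 0)
    (h₂ : ((St x).map (biprod.snd : A ⊞ B ⟶ B)).hom a = 0) : a = 0 := by
  have h := congr_arg (fun φ => φ.hom a) (congr_arg (St x).map (biprod.total (X := A) (Y := B)))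
  simp only [Functor.map_add, Functor.map_comp, ModuleCat.hom_add,
    ModuleCat.hom_comp, LinearMap.add_apply, LinearMap.comp_apply,
    h₁, h₂, map_zero, add_zero] at h
  rw [CategoryTheory.Functor.map_id] at h
  exact h.symm

theorem support_biprod {A B : X.Modules} :
    CohB1.support (A ⊞ B) ⊆ CohB1.support A ∪ CohB1.support B := by
  intro x hx
  obtain ⟨a, ha⟩ := (mem_support_iff_nonzero _ x).mp hx
  by_contra h
  rw [Set.mem_union, not_or] at h
  exact ha (biprod_ext x a (@Subsingleton.elim _ (not_not.mp h.1) _ _)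
    (@Subsingleton.elim _ (not_not.mp h.2) _ _))

/-- Vanishing of a germ, on an affine open. -/
theorem gm_eq_zero_iff {M : X.Modules} [Coh.IsQCoh M] {U : X.Opens} (hU : IsAffineOpen U) (x : X)
    (hx : x ∈ U) (s : Γ(M, U)) :
    gm M x hx s = 0 ↔ ∃ r : Γ(X, U), r ∉ (hU.primeIdealOf ⟨x, hx⟩).asIdeal ∧ r • s = 0 := by
  have hb : ∀ r : Γ(X, U), x ∈ X.basicOpen r ↔ r ∉ (hU.primeIdealOf ⟨x, hx⟩).asIdeal := fun r => by
    have e := hU.fromSpec_primeIdealOf ⟨x, hx⟩
    have h' : hU.primeIdealOf ⟨x, hx⟩ ∈ hU.fromSpec ⁻¹ᵁ X.basicOpen r ↔ x ∈ X.basicOpen r := by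
      change hU.fromSpec (hU.primeIdealOf ⟨x, hx⟩) ∈ X.basicOpen r ↔ _
      rw [e]
    rw [← h', hU.fromSpec_preimage_basicOpen]
    rfl
  constructor
  · intro h
    obtain ⟨W, hxW, i₁, i₂, hW⟩ := TopCat.Presheaf.germ_eq M.presheaf x hx hx s 0
      (h.trans (gm_zero M x hx).symm)
    rw [map_zero] at hW
    obtain ⟨g, hgW, hxg⟩ := QCohLib.exists_basicOpen_nhd hU hxW hx
    have hz : M.presheaf.map (homOfLE (X.basicOpen_le g)).op s = 0 := by
      have h1 := congr_arg (M.presheaf.map (homOfLE hgW).op) hW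
      rw [map_zero] at h1
      refine Eq.trans ?_ h1
      exact (QCohLib.map_map' M (homOfLE hgW) i₁ s).symm
    obtain ⟨n, hn⟩ := (QCohLib.localizingAt_of_isQCoh hU M g).eq_zero s hz
    exact ⟨g ^ n, fun hmem => (hb g).mp hxg
      ((hU.primeIdealOf ⟨x, hx⟩).2.mem_of_pow_mem n hmem), by simpa using hn⟩
  · rintro ⟨r, hr, hrs⟩
    have hu : IsUnit (X.presheaf.germ U x hx r) := (X.mem_basicOpen r x hx).mp ((hb r).mpr hr)
    have h1 : X.presheaf.germ U x hx r • gm M x hx s = 0 := by
      rw [← gm_smul, hrs, gm_zero]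
    exact (hu.smul_eq_zero).mp h1

/-- Elements of the maximal ideal kill a germ as soon as the prime of the point kills the section. -/
theorem maximalIdeal_smul_gm {M : X.Modules} {U : X.Opens} (hU : IsAffineOpen U) (x : X)
    (hx : x ∈ U) (s : Γ(M, U))
    (h : ∀ a ∈ (hU.primeIdealOf ⟨x, hx⟩).asIdeal, gm M x hx (a • s) = 0)
    (r : X.presheaf.stalk x) (hr : r ∈ IsLocalRing.maximalIdeal (X.presheaf.stalk x)) :
    r • gm M x hx s = 0 := by
  let alg := X.presheaf.algebra_section_stalk (⟨x, hx⟩ : U)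
  have hloc : IsLocalization.AtPrime (X.presheaf.stalk x) (hU.primeIdealOf ⟨x, hx⟩).asIdeal :=
    hU.isLocalization_stalk ⟨x, hx⟩
  obtain ⟨a, b, rfl⟩ :=
    IsLocalization.exists_mk'_eq (hU.primeIdealOf ⟨x, hx⟩).asIdeal.primeCompl r
  have ha : a ∈ (hU.primeIdealOf ⟨x, hx⟩).asIdeal :=
    (IsLocalization.AtPrime.mk'_mem_maximal_iff (X.presheaf.stalk x)
      (hU.primeIdealOf ⟨x, hx⟩).asIdeal a b).mp hr
  rw [IsLocalization.mk'_eq_mul_mk'_one, mul_comm, mul_smul]
  have : algebraMap Γ(X, U) (X.presheaf.stalk x) a • gm M x hx s = 0 :=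
    (gm_smul M x hx a s).symm.trans (h a ha)
  exact (congr_arg _ this).trans (smul_zero _)

/-- A cyclic nonzero module killed by the maximal ideal is the residue field. -/
theorem nonempty_residue_equiv {R : Type u} [CommRing R] [IsLocalRing R] {N : Type u}
    [AddCommGroup N] [Module R N] (g : N) (hg : g ≠ 0)
    (hgen : ∀ n : N, ∃ c : R, n = c • g)
    (hk : ∀ r ∈ IsLocalRing.maximalIdeal R, r • g = 0) :
    Nonempty (N ≃ₗ[R] IsLocalRing.ResidueField R) := by
  have hker : LinearMap.ker (LinearMap.toSpanSingleton R N g) = IsLocalRing.maximalIdeal R := by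
    ext r
    refine ⟨fun h => ?_, fun h => hk r h⟩
    by_contra hr
    exact hg (((IsLocalRing.notMem_maximalIdeal).mp hr).smul_eq_zero.mp h)
  have hsur : Function.Surjective (LinearMap.toSpanSingleton R N g) := fun n =>
    ⟨(hgen n).choose, (hgen n).choose_spec.symm⟩
  exact ⟨((Submodule.quotEquivOfEq _ _ hker.symm).trans
    (LinearMap.quotKerEquivOfSurjective _ hsur)).symm⟩

/-- A module isomorphic to the residue field is generated by any nonzero element and is killed by
the maximal ideal. -/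
theorem exists_smul_of_residue {R : Type u} [CommRing R] [IsLocalRing R] {N : Type u}
    [AddCommGroup N] [Module R N] (e : N ≃ₗ[R] IsLocalRing.ResidueField R) {g : N} (hg : g ≠ 0)
    (n : N) : ∃ c : R, n = c • g := by
  obtain ⟨a, ha⟩ := IsLocalRing.residue_surjective (R := R) (e g)⁻¹
  obtain ⟨b, hb⟩ := IsLocalRing.residue_surjective (R := R) (e n)
  refine ⟨b * a, e.injective ?_⟩
  rw [map_smul, Algebra.smul_def, map_mul]
  change _ = IsLocalRing.residue R b * IsLocalRing.residue R a * _
  rw [ha, hb, mul_assoc, inv_mul_cancel₀ (fun h => hg (e.injective (h.trans (map_zero e).symm))),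
    mul_one]

theorem smul_eq_zero_of_residue {R : Type u} [CommRing R] [IsLocalRing R] {N : Type u}
    [AddCommGroup N] [Module R N] (e : N ≃ₗ[R] IsLocalRing.ResidueField R) (r : R)
    (hr : r ∈ IsLocalRing.maximalIdeal R) (n : N) : r • n = 0 := e.injective <| by
  rw [map_smul, map_zero, Algebra.smul_def]
  change IsLocalRing.residue R r * _ = 0
  rw [(IsLocalRing.residue_eq_zero_iff r).mpr hr, zero_mul]

/-- On a Noetherian scheme, at a point not properly generized in the support of a coherent module,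
some section has a nonzero germ killed by the maximal ideal. -/
theorem exists_killed_germ [IsLocallyNoetherian X] {M : X.Modules} (hM : Coh.IsCoh M) {η : X}
    (hη : η ∈ CohB1.support M) (hgen : ∀ y ∈ CohB1.support M, y ⤳ η → y = η)
    {U : X.Opens} (hU : IsAffineOpen U) (hηU : η ∈ U) :
    ∃ s : Γ(M, U), gm M η hηU s ≠ 0 ∧
      ∀ r ∈ IsLocalRing.maximalIdeal (X.presheaf.stalk η), r • gm M η hηU s = 0 := by
  have : Coh.IsQCoh M := hM.1
  have : IsNoetherianRing Γ(X, U) := IsLocallyNoetherian.component_noetherian ⟨U, hU⟩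
  have := QCohLib.finite_of_isFT hM.2 hU
  set p := hU.primeIdealOf ⟨η, hηU⟩ with hp
  have hpS : p ∈ Module.support Γ(X, U) Γ(M, U) := (QCohLib.mem_support_iff hU hηU).mpr hη
  have hmin : p.asIdeal ∈ (Module.annihilator Γ(X, U) Γ(M, U)).minimalPrimes := by
    rw [Module.support_eq_zeroLocus] at hpS
    refine ⟨⟨p.2, hpS⟩, fun q hq hqp => ?_⟩
    let q' : PrimeSpectrum Γ(X, U) := ⟨q, hq.1⟩
    have hq' : q' ∈ Module.support Γ(X, U) Γ(M, U) := by
      rw [Module.support_eq_zeroLocus]; exact hq.2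
    have hyU : hU.fromSpec q' ∈ U := by
      have : hU.fromSpec q' ∈ Set.range hU.fromSpec := ⟨q', rfl⟩
      rwa [hU.range_fromSpec] at this
    have hqy : hU.primeIdealOf ⟨hU.fromSpec q', hyU⟩ = q' :=
      hU.fromSpec.isOpenEmbedding.injective (hU.fromSpec_primeIdealOf ⟨_, hyU⟩)
    have hy : hU.fromSpec q' ∈ CohB1.support M :=
      (QCohLib.mem_support_iff hU hyU).mp (hqy.symm ▸ hq')
    have hspec : hU.fromSpec q' ⤳ η := by
      have h1 : q' ⤳ p := (PrimeSpectrum.le_iff_specializes q' p).mp hqp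
      have h2 := h1.map hU.fromSpec.continuous
      rwa [show hU.fromSpec p = η from hU.fromSpec_primeIdealOf ⟨η, hηU⟩] at h2
    have e : q' = p := hU.fromSpec.isOpenEmbedding.injective
      ((hgen _ hy hspec).trans (hU.fromSpec_primeIdealOf ⟨η, hηU⟩).symm)
    exact (congr_arg PrimeSpectrum.asIdeal e).ge
  obtain ⟨-, s, hs⟩ := isAssociatedPrime_iff.mp
    (Module.associatedPrimes.minimalPrimes_annihilator_subset_associatedPrimes Γ(X, U) Γ(M, U) hmin)
  have hs' : ∀ a, a ∈ p.asIdeal ↔ a • s = 0 := fun a => by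
    rw [hs, Submodule.mem_colon_singleton, Submodule.mem_bot]
  refine ⟨s, fun h => ?_, maximalIdeal_smul_gm hU η hηU s fun a ha => ?_⟩
  · obtain ⟨r, hr, hrs⟩ := (gm_eq_zero_iff hU η hηU s).mp h
    exact hr ((hs' r).mpr hrs)
  · rw [(hs' a).mp ha, gm_zero]

end DevissLib
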