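import Groth.Agent.DevissLib.Stalk
import Groth.Agent.QCohLib.Extend

/-!
# Coherent modules: biproducts, images, submodules through a section, splitting of supports
-/

set_option autoImplicit false

universe u

open CategoryTheory CategoryTheory.Limits AlgebraicGeometry TopologicalSpace Opposite

namespace DevissLib

variable {X : Scheme.{u}}

theorem isCoh_of_isZero {M : X.Modules} (h : IsZero M) : Coh.IsCoh M :=
  ⟨QCohLib.isQCoh_of_isZero h, QCohLib.isFT_of_isZero h⟩

theorem app_biprod_ext {A B : X.Modules} {U : X.Opens} (a : Γ(A ⊞ B, U))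
    (h₁ : (biprod.fst : A ⊞ B ⟶ A).app U a = 0) (h₂ : (biprod.snd : A ⊞ B ⟶ B).app U a = 0) :
    a = 0 := by
  have h := congr_arg (fun φ : A ⊞ B ⟶ A ⊞ B => φ.app U a) (biprod.total (X := A) (Y := B))
  refine h.symm.trans ?_
  change ((biprod.inl : A ⟶ A ⊞ B).app U ((biprod.fst : A ⊞ B ⟶ A).app U a)) +
    ((biprod.inr : B ⟶ A ⊞ B).app U ((biprod.snd : A ⊞ B ⟶ B).app U a)) = 0
  rw [h₁, h₂, map_zero, map_zero, add_zero]

theorem isCoh_biprod [IsLocallyNoetherian X] {A B : X.Modules} (hA : Coh.IsCoh A)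
    (hB : Coh.IsCoh B) : Coh.IsCoh (A ⊞ B) := by
  have : Coh.IsQCoh A := hA.1
  have : Coh.IsQCoh B := hB.1
  have hq := QCohLib.isQCoh_biprod A B
  refine ⟨hq, QCohLib.isFT_of_finite fun p => ?_⟩
  obtain ⟨U, hU, hp⟩ := QCohLib.exists_affine_nhd p
  have : IsNoetherianRing Γ(X, U) := IsLocallyNoetherian.component_noetherian ⟨U, hU⟩
  have := QCohLib.finite_of_isFT hA.2 hU
  have := QCohLib.finite_of_isFT hB.2 hU
  refine ⟨U, hU, hp, Module.Finite.of_injective
    ((QCohLib.appLin (biprod.fst : A ⊞ B ⟶ A) U).prod (QCohLib.appLin (biprod.snd : A ⊞ B ⟶ B) U))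
    fun a b hab => ?_⟩
  rw [← sub_eq_zero]
  refine app_biprod_ext _ ?_ ?_ <;> rw [map_sub, sub_eq_zero]
  exacts [congr_arg Prod.fst hab, congr_arg Prod.snd hab]

theorem isCoh_image [IsLocallyNoetherian X] {A B : X.Modules} (φ : A ⟶ B) (hA : Coh.IsCoh A)
    (hB : Coh.IsCoh B) : Coh.IsCoh (Abelian.image φ) :=
  have : Coh.IsQCoh A := hA.1
  have : Coh.IsQCoh B := hB.1
  QCohLib.isCoh_of_mono (Abelian.image.ι φ) hB (QCohLib.isQCoh_image φ)

/-- `0 → ker φ → A → im φ → 0`. -/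
noncomputable abbrev kerImSeq {A B : X.Modules} (φ : A ⟶ B) : ShortComplex X.Modules :=
  ShortComplex.mk (kernel.ι φ) (Abelian.factorThruImage φ)
    (by rw [← cancel_mono (Abelian.image.ι φ), Category.assoc, Abelian.image.fac,
      kernel.condition, zero_comp])

theorem kerImSeq_shortExact {A B : X.Modules} (φ : A ⟶ B) : (kerImSeq φ).ShortExact := by
  let S'' : ShortComplex X.Modules := ShortComplex.mk (kernel.ι φ) φ (kernel.condition φ)
  let α : kerImSeq φ ⟶ S'' := { τ₁ := 𝟙 _, τ₂ := 𝟙 _, τ₃ := Abelian.image.ι φ,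
                                comm₁₂ := by simp [S''], comm₂₃ := by simp [S''] }
  have : Epi α.τ₁ := inferInstanceAs (Epi (𝟙 _))
  have : IsIso α.τ₂ := inferInstanceAs (IsIso (𝟙 _))
  have : Mono α.τ₃ := inferInstanceAs (Mono (Abelian.image.ι φ))
  exact { exact := (ShortComplex.exact_iff_of_epi_of_isIso_of_mono α).mpr
            (ShortComplex.exact_of_f_is_kernel _ (kernelIsKernel φ))
          mono_f := inferInstanceAs (Mono (kernel.ι φ))
          epi_g := inferInstanceAs (Epi (Abelian.factorThruImage φ)) }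

/-- `0 → im φ → B → coker φ → 0`. -/
noncomputable abbrev imCokSeq {A B : X.Modules} (φ : A ⟶ B) : ShortComplex X.Modules :=
  ShortComplex.mk (Abelian.image.ι φ) (cokernel.π φ) (kernel.condition _)

theorem imCokSeq_shortExact {A B : X.Modules} (φ : A ⟶ B) : (imCokSeq φ).ShortExact :=
  { exact := ShortComplex.exact_of_f_is_kernel _ (kernelIsKernel _)
    mono_f := inferInstanceAs (Mono (Abelian.image.ι φ))
    epi_g := inferInstanceAs (Epi (cokernel.π φ)) }

/-- The stalk of a kernel vanishes exactly when the stalk map is injective. -/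
theorem notMem_support_kernel {A B : X.Modules} (φ : A ⟶ B) (x : X)
    (h : Function.Injective ((St x).map φ).hom) : x ∉ CohB1.support (kernel φ) := by
  intro hx
  obtain ⟨a, ha⟩ := (mem_support_iff_nonzero _ x).mp hx
  have hi : Function.Injective ((St x).map (kernel.ι φ)).hom :=
    (ModuleCat.mono_iff_injective _).mp inferInstance
  refine ha (hi (h ?_))
  rw [map_zero, map_zero]
  have := congr_arg (fun ψ => ψ.hom a) (congr_arg (St x).map (kernel.condition φ))
  simpa only [Functor.map_comp, Functor.map_zero, ModuleCat.hom_comp, ModuleCat.hom_zero,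
    LinearMap.comp_apply, LinearMap.zero_apply] using this

/-- The stalk of a cokernel vanishes when the stalk map is surjective. -/
theorem notMem_support_cokernel {A B : X.Modules} (φ : A ⟶ B) (x : X)
    (h : Function.Surjective ((St x).map φ).hom) : x ∉ CohB1.support (cokernel φ) := by
  intro hx
  obtain ⟨c, hc⟩ := (mem_support_iff_nonzero _ x).mp hx
  obtain ⟨b, rfl⟩ := (ModuleCat.epi_iff_surjective ((St x).map (cokernel.π φ))).mp inferInstance c
  obtain ⟨a, rfl⟩ := h b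
  refine hc ?_
  have := congr_arg (fun ψ => ψ.hom a) (congr_arg (St x).map (cokernel.condition φ))
  simpa only [Functor.map_comp, Functor.map_zero, ModuleCat.hom_comp, ModuleCat.hom_zero,
    LinearMap.comp_apply, LinearMap.zero_apply] using this

/-- A coherent submodule through a section on an affine open, whose stalks on that open consist of
multiples of the germ. -/
theorem exists_sub_through [IsNoetherian X] {M : X.Modules} (hM : Coh.IsCoh M) {U : X.Opens}
    (_hU : IsAffineOpen U) (s : Γ(M, U)) :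
    ∃ (H : X.Modules) (i : H ⟶ M), Mono i ∧ Coh.IsCoh H ∧ (∃ t : Γ(H, U), i.app U t = s) ∧
      ∀ (x : X) (hx : x ∈ U) (a : (St x).obj H),
        ∃ c : X.presheaf.stalk x, ((St x).map i).hom a = c • gm M x hx s := by
  have : Coh.IsQCoh M := hM.1
  have hcanon : QCohLib.LocSub.Canon (QCohLib.LocSub.span M U fun _ : ULift.{u} (Fin 1) => s) U := by
    intro W a ha p hp hpU
    obtain ⟨O, hO, hOU, hpO, c, hc⟩ := ha p ⟨hp, hpU⟩ hpU
    rw [QCohLib.map_map'] at hc
    exact ⟨O, hO.trans inf_le_left, hOU, hpO, c, hc⟩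
  have hft : QCohLib.LocSub.FTBelow
      (QCohLib.LocSub.span M U fun _ : ULift.{u} (Fin 1) => s) U := fun p hp =>
    ⟨U, le_rfl, hp, 1, fun _ => s, fun i => QCohLib.LocSub.span_self _ i, fun W _ a ha => ha⟩
  obtain ⟨S, hS, hagree⟩ := QCohLib.LocSub.exists_ftExtension
    (fun W O _ => TopologicalSpace.NoetherianSpace.isCompact _) U _ hcanon hft
  have hs : S.mem U s := (hagree U le_rfl s).mpr (QCohLib.LocSub.span_self _ ⟨0⟩)
  refine ⟨S.toModules, S.ι, inferInstance,
    ⟨QCohLib.LocSub.isQCoh_toModules S hS, QCohLib.LocSub.isFT_toModules S hS⟩,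
    ⟨S.lift s hs, S.ι_lift s hs⟩, fun x hx a => ?_⟩
  obtain ⟨W, hxW, z, rfl⟩ := exists_gm_eq _ x a
  have hz : S.mem (W ⊓ U) (M.presheaf.map (homOfLE inf_le_left).op (S.ι.app W z)) :=
    S.res inf_le_left (S.ι_app_mem z)
  obtain ⟨O, hO, hOU, hxO, c, hc⟩ := (hagree (W ⊓ U) inf_le_right _).mp hz x ⟨hxW, hx⟩ hx
  refine ⟨X.presheaf.germ O x hxO (c ⟨0⟩), ?_⟩
  rw [gm_app, ← gm_map M (inf_le_left : W ⊓ U ≤ W) x ⟨hxW, hx⟩, ← gm_map M hO x hxO, hc,
    Fintype.sum_eq_single (⟨0⟩ : ULift.{u} (Fin 1)) (fun j hj => absurd (Subsingleton.elim _ _) hj),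
    gm_smul, gm_map M hOU x hxO]

/-- A bridge between two coherent modules, at a point which is not properly generized in their
supports and where the first has the residue field as stalk. -/
theorem exists_bridge [IsNoetherian X] {G M : X.Modules} (hG : Coh.IsCoh G) (hM : Coh.IsCoh M)
    {η : X} (hgenG : ∀ y ∈ CohB1.support G, y ⤳ η → y = η)
    (hgenM : ∀ y ∈ CohB1.support M, y ⤳ η → y = η)
    (e : (St η).obj G ≃ₗ[X.presheaf.stalk η] IsLocalRing.ResidueField (X.presheaf.stalk η))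
    (hηM : η ∈ CohB1.support M) :
    ∃ (H : X.Modules) (p₁ : H ⟶ G) (p₂ : H ⟶ M), Coh.IsCoh H ∧
      CohB1.support H ⊆ CohB1.support G ∪ CohB1.support M ∧
      Function.Bijective ((St η).map p₁).hom ∧ Function.Injective ((St η).map p₂).hom ∧
      ∃ a, ((St η).map p₂).hom a ≠ 0 := by
  obtain ⟨U, hU, hηU⟩ := QCohLib.exists_affine_nhd η
  have hηG : η ∈ CohB1.support G := by
    refine (mem_support_iff_nonzero G η).mpr ⟨e.symm 1, fun h => ?_⟩
    exact one_ne_zero (e.symm.injective (h.trans (map_zero e.symm).symm))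
  obtain ⟨g, hg, hgk⟩ := exists_killed_germ hG hηG hgenG hU hηU
  obtain ⟨s, hs, hsk⟩ := exists_killed_germ hM hηM hgenM hU hηU
  let v : Γ(G ⊞ M, U) := (biprod.inl : G ⟶ G ⊞ M).app U g + (biprod.inr : M ⟶ G ⊞ M).app U s
  have hv₁ : (biprod.fst : G ⊞ M ⟶ G).app U v = g := by
    rw [map_add]
    refine (congr_arg₂ (· + ·) (congr_arg (fun φ : G ⟶ G => φ.app U g) biprod.inl_fst)
      (congr_arg (fun φ : M ⟶ G => φ.app U s) biprod.inr_fst)).trans ?_
    exact add_zero g
  have hv₂ : (biprod.snd : G ⊞ M ⟶ M).app U v = s := by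
    rw [map_add]
    refine (congr_arg₂ (· + ·) (congr_arg (fun φ : G ⟶ M => φ.app U g) biprod.inl_snd)
      (congr_arg (fun φ : M ⟶ M => φ.app U s) biprod.inr_snd)).trans ?_
    exact zero_add s
  obtain ⟨H, i, hi, hH, ⟨t, ht⟩, hst⟩ := exists_sub_through (isCoh_biprod hG hM) hU v
  let p₁ := i ≫ (biprod.fst : G ⊞ M ⟶ G)
  let p₂ := i ≫ (biprod.snd : G ⊞ M ⟶ M)
  have hp₁ : ((St η).map p₁).hom (gm H η hηU t) = gm G η hηU g := by
    rw [gm_app]
    exact congr_arg _ ((congr_arg _ ht).trans hv₁)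
  have hp₂ : ((St η).map p₂).hom (gm H η hηU t) = gm M η hηU s := by
    rw [gm_app]
    exact congr_arg _ ((congr_arg _ ht).trans hv₂)
  have hi' : Function.Injective ((St η).map i).hom :=
    (ModuleCat.mono_iff_injective _).mp inferInstance
  -- every element of the stalk of `H` is a multiple of the germ of `t`
  have hgen : ∀ a : (St η).obj H, ∃ c : X.presheaf.stalk η, a = c • gm H η hηU t := fun a => by
    obtain ⟨c, hc⟩ := hst η hηU a
    refine ⟨c, hi' (hc.trans ?_)⟩
    rw [map_smul, gm_app, ht]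
  have key : ∀ (c : X.presheaf.stalk η), c • gm G η hηU g = 0 → c • gm M η hηU s = 0 ∧
      c • gm H η hηU t = 0 := fun c h => by
    have hc : c ∈ IsLocalRing.maximalIdeal (X.presheaf.stalk η) := by
      by_contra hc
      exact hg ((IsLocalRing.notMem_maximalIdeal.mp hc).smul_eq_zero.mp h)
    refine ⟨hsk c hc, hi' (biprod_ext η _ ?_ ?_ |>.trans (map_zero _).symm)⟩
    · rw [map_smul, map_smul]
      refine (congr_arg _ ?_).trans h
      rw [gm_app, gm_app, ht, hv₁]
    · rw [map_smul, map_smul]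
      refine (congr_arg _ ?_).trans (hsk c hc)
      rw [gm_app, gm_app, ht, hv₂]
  refine ⟨H, p₁, p₂, hH, (support_mono i).trans support_biprod,
    ⟨fun a b hab => ?_, fun b => ?_⟩, fun a b hab => ?_, gm H η hηU t, hp₂ ▸ hs⟩
  · obtain ⟨c, rfl⟩ := hgen a
    obtain ⟨d, rfl⟩ := hgen b
    rw [map_smul, map_smul, hp₁, ← sub_eq_zero, ← sub_smul] at hab
    rw [← sub_eq_zero, ← sub_smul]
    exact (key _ hab).2
  · obtain ⟨c, rfl⟩ := exists_smul_of_residue e hg b
    exact ⟨c • gm H η hηU t, by rw [map_smul, hp₁]⟩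
  · obtain ⟨c, rfl⟩ := hgen a
    obtain ⟨d, rfl⟩ := hgen b
    rw [map_smul, map_smul, hp₂, ← sub_eq_zero, ← sub_smul] at hab
    rw [← sub_eq_zero, ← sub_smul]
    have hcd : (c - d) ∈ IsLocalRing.maximalIdeal (X.presheaf.stalk η) := by
      by_contra hc
      exact hs ((IsLocalRing.notMem_maximalIdeal.mp hc).smul_eq_zero.mp hab)
    exact (key _ (smul_eq_zero_of_residue e _ hcd _)).2

/-- Splitting a coherent module along its support. -/
theorem exists_split [IsNoetherian X] {M : X.Modules} (hM : Coh.IsCoh M) {Z Z' : Set X}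
    (hZ : IsClosed Z) (hZ' : IsClosed Z') (h : CohB1.support M ⊆ Z ∪ Z') :
    ∃ S : ShortComplex X.Modules, S.ShortExact ∧ Nonempty (S.X₂ ≅ M) ∧ Coh.IsCoh S.X₁ ∧
      Coh.IsCoh S.X₃ ∧ CohB1.support S.X₁ ⊆ Z' ∧ CohB1.support S.X₃ ⊆ Z := by
  let U : X.Opens := ⟨Z'ᶜ, hZ'.isOpen_compl⟩
  have : TopologicalSpace.NoetherianSpace (↑U : Scheme.{u}) :=
    U.ι.isOpenEmbedding.isInducing.noetherianSpace
  have : QuasiCompact U.ι := ⟨fun V _ _ => TopologicalSpace.NoetherianSpace.isCompact _⟩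
  have : Coh.IsQCoh M := hM.1
  let P := (Scheme.Modules.pushforward U.ι).obj (M.restrict U.ι)
  have hP : Coh.IsQCoh P := QCohLib.isQCoh_pushforward U.ι _
  let φ : M ⟶ P := (Scheme.Modules.restrictAdjunction U.ι).unit.app M
  have hφ : ∀ (W : X.Opens) (a : Γ(M, W)), φ.app W a =
      M.presheaf.map (homOfLE (U.ι.image_preimage_le W)).op a := fun W a =>
    congr($(Scheme.Modules.restrictAdjunction_unit_app_app U.ι M W) a)
  have h₁ : CohB1.support (kernel φ) ⊆ Z' := by
    intro x hx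
    by_contra hxU
    refine notMem_support_kernel φ x (fun a b hab => ?_) hx
    rw [← sub_eq_zero]
    rw [← sub_eq_zero, ← map_sub] at hab
    obtain ⟨W, hxW, z, hz⟩ := exists_gm_eq M x (a - b)
    rw [← hz] at hab ⊢
    rw [gm_app] at hab
    obtain ⟨W', hxW', i₁, i₂, hW'⟩ := TopCat.Presheaf.germ_eq P.presheaf x hxW hxW (φ.app W z) 0
      (hab.trans (gm_zero P x hxW).symm)
    rw [map_zero] at hW'
    have hW'' : φ.app W' (M.presheaf.map i₁.op z) = 0 := (QCohLib.app_map φ i₁ z).trans hW'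
    rw [hφ] at hW''
    have hxW'' : x ∈ U.ι ''ᵁ (U.ι ⁻¹ᵁ W') := ⟨⟨x, hxU⟩, hxW', rfl⟩
    rw [← gm_map M i₁.le x hxW', ← gm_map M (U.ι.image_preimage_le W') x hxW'']
    exact (congr_arg (gm M x hxW'') hW'').trans (gm_zero M x hxW'')
  have h₂ : CohB1.support (Abelian.image φ) ⊆ Z := by
    intro x hx
    by_contra hxZ
    refine (support_mono (Abelian.image.ι φ) hx) ((QCohLib.subsingleton_stalk_iff P x).mpr
      fun W hxW t => ⟨W ⊓ ⟨Zᶜ, hZ.isOpen_compl⟩, inf_le_left, ⟨hxW, hxZ⟩, ?_⟩)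
    let W' : X.Opens := W ⊓ ⟨Zᶜ, hZ.isOpen_compl⟩
    refine TopCat.Presheaf.section_ext ((QCohLib.toAbF X).obj M : TopCat.Sheaf AddCommGrpCat _)
      (U.ι ''ᵁ (U.ι ⁻¹ᵁ W')) _ _ fun q hq => @Subsingleton.elim _ (not_not.mp fun hq' => ?_) _ _
    obtain ⟨y, hy, rfl⟩ := hq
    rcases h hq' with h' | h'
    · exact hy.2 h'
    · exact y.2 h'
  exact ⟨kerImSeq φ, kerImSeq_shortExact φ, ⟨Iso.refl _⟩,
    QCohLib.isCoh_kernel φ hM hP, ⟨QCohLib.isQCoh_image φ,
      QCohLib.isFT_of_epi (Abelian.factorThruImage φ) hM.2⟩, h₁, h₂⟩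

end DevissLib
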