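import Groth.Agent.DevissLib.Basic
import Groth.Agent.KFlatLib.PullTensor
import Groth.Prelude.Def_ClSub2

/-!
# Modules killed by the ideal of a closed immersion are direct images
-/

set_option autoImplicit false

universe u

open CategoryTheory CategoryTheory.Limits AlgebraicGeometry TopologicalSpace Opposite
open scoped TensorProduct

namespace DevissLib

/-- Base change along a surjection whose kernel kills the module. -/
theorem bijective_one_tmul {A B : Type u} [CommRing A] [CommRing B] [Algebra A B]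
    {M : Type u} [AddCommGroup M] [Module A M] (hs : Function.Surjective (algebraMap A B))
    (hk : ∀ a : A, algebraMap A B a = 0 → ∀ m : M, a • m = 0) :
    Function.Bijective fun m : M => (1 : B) ⊗ₜ[A] m := by
  have hc : ∀ (a a' : A), algebraMap A B a = algebraMap A B a' → ∀ m : M, a • m = a' • m :=
    fun a a' h m => by rw [← sub_eq_zero, ← sub_smul, hk _ (by rw [map_sub, h, sub_self])]
  let g := Function.surjInv hs
  have hg : ∀ b, algebraMap A B (g b) = b := Function.surjInv_eq hs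
  let L : B ⊗[A] M →ₗ[A] M := TensorProduct.lift (LinearMap.mk₂ A (fun b m => g b • m)
    (fun b b' m => by rw [← add_smul]; exact hc _ _ (by rw [map_add, hg, hg, hg]) m)
    (fun c b m => by
      rw [smul_smul]
      exact hc _ _ (by rw [map_mul, hg, hg, Algebra.smul_def]) m)
    (fun b m m' => smul_add _ m m') (fun c b m => smul_comm _ c m))
  refine ⟨Function.LeftInverse.injective (g := L) fun m => ?_, fun t => ?_⟩
  · change g 1 • m = m
    exact (hc _ 1 (by rw [hg, map_one]) m).trans (one_smul A m)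
  · induction t using TensorProduct.induction_on with
    | zero => exact ⟨0, TensorProduct.tmul_zero _ _⟩
    | tmul b m =>
      refine ⟨g b • m, ?_⟩
      change (1 : B) ⊗ₜ[A] (g b • m) = _
      rw [← TensorProduct.smul_tmul, Algebra.smul_def, hg, mul_one]
    | add t t' h h' =>
      obtain ⟨m, rfl⟩ := h
      obtain ⟨m', rfl⟩ := h'
      exact ⟨m + m', TensorProduct.tmul_add _ _ _⟩

variable {Z X : Scheme.{u}} (i : Z ⟶ X) [IsClosedImmersion i] {F : X.Modules}
  (hk : ClSub.KilledByIdeal i.ker F)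

include hk in
theorem stalk_killed (z : Z) (r : X.presheaf.stalk (i z)) (hr : i.stalkMap z r = 0)
    (m : (St (i z)).obj F) : r • m = 0 := by
  obtain ⟨V, hV, r', rfl⟩ := X.presheaf.exists_germ_eq (x := i z) r
  obtain ⟨W, hW, s, rfl⟩ := exists_gm_eq F (i z) m
  rw [Scheme.Hom.germ_stalkMap_apply] at hr
  obtain ⟨O, hzO, i₁, i₂, hO⟩ := TopCat.Presheaf.germ_eq Z.presheaf z (U := i ⁻¹ᵁ V) hV hV
    (i.app V r') 0 (hr.trans (map_zero (Z.presheaf.germ (i ⁻¹ᵁ V) z hV).hom).symm)
  rw [map_zero] at hO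
  obtain ⟨O', hO', hO''⟩ := i.isClosedEmbedding.isInducing.isOpen_iff.mp O.2
  obtain ⟨U, hU, hzU, hUle⟩ := Opens.isBasis_iff_nbhd.mp X.isBasis_affineOpens
    (show i z ∈ V ⊓ W ⊓ ⟨O', hO'⟩ from ⟨⟨hV, hW⟩, hO''.ge hzO⟩)
  have hUV : U ≤ V := hUle.trans (inf_le_left.trans inf_le_left)
  have hmem : X.presheaf.map (homOfLE hUV).op r' ∈ i.ker.ideal ⟨U, hU⟩ := by
    rw [Scheme.Hom.ker_apply, RingHom.mem_ker]
    have hle : i ⁻¹ᵁ U ≤ O := fun q hq => hO''.le (hUle hq).2
    refine (ConcreteCategory.congr_hom (i.naturality (homOfLE hUV).op) r').trans ?_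
    have h2 := congr_arg (Z.presheaf.map (homOfLE hle).op) hO
    rw [map_zero] at h2
    refine Eq.trans ?_ h2
    exact (ConcreteCategory.congr_hom (Z.presheaf.map_comp i₁.op (homOfLE hle).op) (i.app V r'))
  have h := hk ⟨U, hU⟩ _ hmem (F.presheaf.map (homOfLE (hUle.trans (inf_le_left.trans inf_le_right))).op s)
  have h2 := (congr_arg (gm F (i z) hzU) h).trans (gm_zero F _ hzU)
  refine Eq.trans ?_ h2
  refine Eq.trans ?_ (gm_smul F (i z) hzU _ _).symm
  rw [gm_map, TopCat.Presheaf.germ_res_apply]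

include hk in
theorem stalk_eq_zero_of_notMem {x : X} (hx : x ∉ Set.range ⇑i) :
    Subsingleton (F.presheaf.stalk x) := by
  refine (QCohLib.subsingleton_stalk_iff F x).mpr fun W hW t => ?_
  obtain ⟨U, hU, hxU, hUle⟩ := Opens.isBasis_iff_nbhd.mp X.isBasis_affineOpens
    (show x ∈ W ⊓ ⟨(Set.range ⇑i)ᶜ, i.isClosedEmbedding.isClosed_range.isOpen_compl⟩ from ⟨hW, hx⟩)
  refine ⟨U, hUle.trans inf_le_left, hxU, ?_⟩
  have h1 : (1 : Γ(X, U)) ∈ i.ker.ideal ⟨U, hU⟩ := by
    rw [Scheme.Hom.ker_apply, RingHom.mem_ker]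
    exact TopCat.Presheaf.section_ext Z.sheaf (i ⁻¹ᵁ U) _ _ fun q hq => absurd ⟨q, rfl⟩ (hUle hq).2
  exact (one_smul Γ(X, U) _).symm.trans (hk ⟨U, hU⟩ 1 h1 _)

include hk in
theorem bijective_stalk_puSec (z : Z) :
    Function.Bijective (fun m : (St (i z)).obj F =>
      letI := (i.stalkMap z).hom.toAlgebra
      ((KFlatLib.stalkPullIso i z).inv.app F).hom
        ((1 : Z.presheaf.stalk z) ⊗ₜ[X.presheaf.stalk (i z)] m)) := by
  let := (i.stalkMap z).hom.toAlgebra
  exact (ConcreteCategory.bijective_of_isIso ((KFlatLib.stalkPullIso i z).inv.app F)).comp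
    (bijective_one_tmul (A := X.presheaf.stalk (i z)) (B := Z.presheaf.stalk z)
      (i.stalkMap_surjective z) fun a ha m => stalk_killed i hk z a ha m)

include hk in
/-- The unit `F → i_* i^* F` is an isomorphism. -/
theorem isIso_unit_of_killed :
    IsIso ((Scheme.Modules.pullbackPushforwardAdjunction i).unit.app F) := by
  set η := (Scheme.Modules.pullbackPushforwardAdjunction i).unit.app F
  set G := (Scheme.Modules.pullback i).obj F
  -- germs of pulled back sections
  have hgm : ∀ (z : Z) {U : X.Opens} (hU : i z ∈ U) (s : Γ(F, U)),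
      (letI := (i.stalkMap z).hom.toAlgebra
      ((KFlatLib.stalkPullIso i z).inv.app F).hom
        ((1 : Z.presheaf.stalk z) ⊗ₜ[X.presheaf.stalk (i z)] gm F (i z) hU s)) =
      gm G z (U := i ⁻¹ᵁ U) hU (η.app U s) := fun z U hU s =>
    KFlatLib.stalkPullInv_germ i F z hU s
  have : Mono η := by
    refine Preadditive.mono_of_isZero_kernel η (KFlatLib.isZero_of_stalks fun x => ?_)
    refine not_not.mp fun hx => notMem_support_kernel η x (fun a b hab => ?_) hx
    by_cases hxr : x ∈ Set.range ⇑i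
    swap
    · exact @Subsingleton.elim _ (stalk_eq_zero_of_notMem i hk hxr) _ _
    obtain ⟨z, rfl⟩ := hxr
    obtain ⟨U, hU, s, rfl⟩ := exists_gm_eq F (i z) a
    obtain ⟨V, hV, t, rfl⟩ := exists_gm_eq F (i z) b
    have hab := (gm_app η (i z) hU s).symm.trans (hab.trans (gm_app η (i z) hV t))
    refine (bijective_stalk_puSec i hk z).1 ?_
    change ((KFlatLib.stalkPullIso i z).inv.app F).hom _ = ((KFlatLib.stalkPullIso i z).inv.app F).hom _
    rw [hgm z hU s, hgm z hV t]
    obtain ⟨O, hxO, i₁, i₂, hO⟩ := TopCat.Presheaf.germ_eq _ (i z) hU hV _ _ hab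
    rw [← gm_map G (i.preimage_mono i₁.le) z hxO, ← gm_map G (i.preimage_mono i₂.le) z hxO]
    exact congr_arg (gm G z (U := i ⁻¹ᵁ O) hxO) hO
  have : Epi η := by
    refine QCohLib.epi_of_surjective_on_affines η fun V t x hx => ?_
    by_cases hxr : x ∈ Set.range ⇑i
    swap
    · let W : X.Opens := V ⊓ ⟨(Set.range ⇑i)ᶜ, i.isClosedEmbedding.isClosed_range.isOpen_compl⟩
      refine ⟨W, inf_le_left, ⟨hx, hxr⟩, 0, ?_⟩
      exact TopCat.Presheaf.section_ext ((QCohLib.toAbF Z).obj G : TopCat.Sheaf AddCommGrpCat _)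
        (i ⁻¹ᵁ W) _ _ fun q hq => absurd ⟨q, rfl⟩ hq.2
    obtain ⟨z, rfl⟩ := hxr
    obtain ⟨m, hm⟩ := (bijective_stalk_puSec i hk z).2 (gm G z (U := i ⁻¹ᵁ V) hx t)
    obtain ⟨U, hU, s, rfl⟩ := exists_gm_eq F (i z) m
    change ((KFlatLib.stalkPullIso i z).inv.app F).hom _ = _ at hm
    rw [hgm z hU s] at hm
    obtain ⟨O, hzO, i₁, i₂, hO⟩ := TopCat.Presheaf.germ_eq G.presheaf z hU hx _ _ hm
    obtain ⟨O', hO', hO''⟩ := i.isClosedEmbedding.isInducing.isOpen_iff.mp O.2
    let W : X.Opens := ⟨O', hO'⟩ ⊓ U ⊓ V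
    have hWO : i ⁻¹ᵁ W ≤ O := fun q hq => hO''.le hq.1.1
    refine ⟨W, inf_le_right, ⟨⟨hO''.ge hzO, hU⟩, hx⟩,
      F.presheaf.map (homOfLE (inf_le_left.trans inf_le_right : W ≤ U)).op s, ?_⟩
    refine (QCohLib.app_map η _ s).trans ?_
    have h2 := congr_arg (G.presheaf.map (homOfLE hWO).op) hO
    rw [QCohLib.map_map', QCohLib.map_map'] at h2
    exact h2
  exact isIso_of_mono_of_epi η

end DevissLib

namespace DevissLib

variable {Z X : Scheme.{u}} (i : Z ⟶ X) [IsClosedImmersion i]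

/-- Coherence descends along closed immersions. -/
theorem isCoh_of_isCoh_push (G : Z.Modules)
    (h : Coh.IsCoh ((Coh.push i).obj G)) : Coh.IsCoh G := by
  have : Coh.IsQCoh ((Coh.push i).obj G) := h.1
  have hq : Coh.IsQCoh G := by
    refine QCohLib.isQCoh_of_localizingAt G (fun U : X.affineOpens => i ⁻¹ᵁ U.1)
      (fun U => U.2.preimage i) ?_ fun U g => ?_
    · refine eq_top_iff.mpr fun p _ => ?_
      obtain ⟨U, hU, hp⟩ := QCohLib.exists_affine_nhd (i p)
      exact Opens.mem_iSup.mpr ⟨⟨U, hU⟩, hp⟩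
    obtain ⟨c, rfl⟩ := i.app_surjective U.1 U.2 g
    obtain ⟨h1, h2⟩ := QCohLib.localizingAt_of_isQCoh U.2 ((Coh.push i).obj G) c
    refine (QCohLib.locPair_congr (hWV := i.preimage_mono (X.basicOpen_le c)) (hVU := le_rfl)
      (hWV' := Z.basicOpen_le _) (hVU' := le_rfl) rfl (Scheme.preimage_basicOpen i c)).mp
      ⟨fun s => ?_, fun t ht => ?_⟩
    · obtain ⟨n, t, ht⟩ := h1 (show Γ((Coh.push i).obj G, X.basicOpen c) from s)
      refine ⟨n, t, ?_⟩
      refine ht.trans ?_
      rw [QCohLib.push_smul, map_pow, QCohLib.app_res]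
    · obtain ⟨n, hn⟩ := h2 (show Γ((Coh.push i).obj G, U.1) from t) ht
      refine ⟨n, ?_⟩
      rw [QCohLib.push_smul, map_pow, QCohLib.app_res] at hn
      exact hn
  refine ⟨hq, QCohLib.isFT_of_finite fun p => ?_⟩
  obtain ⟨U, hU, hp⟩ := QCohLib.exists_affine_nhd (i p)
  obtain ⟨⟨T, hT⟩⟩ := QCohLib.finite_of_isFT h.2 hU
  let T' : Finset Γ(G, i ⁻¹ᵁ U) := T
  refine ⟨i ⁻¹ᵁ U, hU.preimage i, hp, ⟨⟨T', eq_top_iff.mpr fun m _ => ?_⟩⟩⟩
  have hm : m ∈ Submodule.span Γ(X, U) (T : Set Γ((Coh.push i).obj G, U)) := hT.ge Submodule.mem_top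
  induction hm using Submodule.span_induction with
  | mem a ha => exact Submodule.subset_span ha
  | zero => exact Submodule.zero_mem _
  | add a b _ _ ha hb => exact Submodule.add_mem _ (ha trivial) (hb trivial)
  | smul r a _ ha =>
    exact Submodule.smul_mem _ (i.app U r) (ha trivial)

/-- Coherent modules killed by the ideal are direct images of coherent modules. -/
theorem exists_coh_of_killed {F : X.Modules} (hF : Coh.IsCoh F)
    (hk : ClSub.KilledByIdeal i.ker F) :
    ∃ G : Z.Modules, Coh.IsCoh G ∧ Nonempty ((Scheme.Modules.pushforward i).obj G ≅ F) := by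
  have := isIso_unit_of_killed i hk
  exact ⟨(Scheme.Modules.pullback i).obj F, isCoh_of_isCoh_push i _
    (QCohLib.isCoh_of_iso (asIso ((Scheme.Modules.pullbackPushforwardAdjunction i).unit.app F)) hF),
    ⟨(asIso ((Scheme.Modules.pullbackPushforwardAdjunction i).unit.app F)).symm⟩⟩

end DevissLib
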