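import Groth.Agent.DevissLib.KilledImm
import Groth.Agent.ProperOverLib.Basic

/-!
# The annihilator ideal sheaf of a module of finite type
-/

set_option autoImplicit false

universe u

open CategoryTheory CategoryTheory.Limits AlgebraicGeometry TopologicalSpace Opposite

namespace DevissLib

variable {X : Scheme.{u}} (F : X.Modules) [Coh.IsQCoh F] (hF : CohB1.IsFT F)

/-- The annihilator ideal sheaf. -/
noncomputable def annIdeal : X.IdealSheafData where
  ideal U := Module.annihilator Γ(X, U.1) Γ(F, U.1)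
  map_ideal_basicOpen U f := by
    classical
    have := U.2.isLocalization_basicOpen f
    obtain ⟨⟨T, hT⟩⟩ := QCohLib.finite_of_isFT hF U.2
    have hloc := QCohLib.localizingAt_of_isQCoh U.2 F f
    let ρ := X.presheaf.map (homOfLE (X.basicOpen_le f)).op
    have hu : IsUnit (ρ f) :=
      (QCohLib.isUnit_res f (le_refl (X.basicOpen f))).choose_spec ▸ Units.isUnit _
    refine le_antisymm (Ideal.map_le_iff_le_comap.mpr fun a ha => ?_) fun b hb => ?_
    · refine Module.mem_annihilator.mpr fun (n : Γ(F, X.basicOpen f)) => ?_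
      obtain ⟨k, t, ht⟩ := hloc.exists_extend n
      change ρ a • n = 0
      refine ((hu.pow k).smul_eq_zero).mp ?_
      rw [smul_comm, ← ht]
      refine (QCohLib.map_smul' F _ a t).symm.trans ?_
      rw [Module.mem_annihilator.mp ha t, map_zero]
    · have hb : ∀ n : Γ(F, X.basicOpen f), b • n = 0 := Module.mem_annihilator.mp hb
      obtain ⟨⟨a, ⟨c, k, rfl⟩⟩, hab⟩ := IsLocalization.surj (Submonoid.powers f) b
      have hab' : b * ρ f ^ k = ρ a := by rw [← map_pow]; exact hab
      have hz : ∀ s ∈ T, ∃ m : ℕ, f ^ m • a • s = 0 := fun s _ => by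
        have h0 : F.presheaf.map (homOfLE (X.basicOpen_le f)).op (a • s) = 0 := by
          refine (QCohLib.map_smul' F _ a s).trans ?_
          change ρ a • _ = 0
          rw [← hab', mul_smul, smul_comm]
          exact (congrArg _ (hb _)).trans (smul_zero _)
        obtain ⟨m, hm⟩ := hloc.eq_zero (a • s) h0
        exact ⟨m, by simpa using hm⟩
      choose m hm using hz
      let N := Finset.univ.sup fun s : T => m s.1 s.2
      have hN : f ^ N * a ∈ Module.annihilator Γ(X, U.1) Γ(F, U.1) := by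
        rw [← Submodule.annihilator_top, ← hT, Submodule.mem_annihilator_span]
        rintro ⟨s, hs⟩
        obtain ⟨d, hd⟩ := Nat.exists_eq_add_of_le
          (Finset.le_sup (f := fun s : T => m s.1 s.2) (Finset.mem_univ ⟨s, hs⟩))
        change (f ^ N * a) • s = 0
        rw [show N = m s hs + d from hd, add_comm, pow_add, mul_assoc, mul_smul, mul_smul,
          hm s hs, smul_zero]
      have hmem := Ideal.mem_map_of_mem ρ.hom hN
      rw [map_mul, map_pow] at hmem
      have h2 : (ρ f) ^ N * ((ρ f) ^ k * b) ∈ Ideal.map ρ.hom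
          (Module.annihilator Γ(X, U.1) Γ(F, U.1)) := by
        rw [mul_comm ((ρ f) ^ k) b, hab']
        exact hmem
      exact (Ideal.unit_mul_mem_iff_mem _ (hu.pow k)).mp ((Ideal.unit_mul_mem_iff_mem _ (hu.pow N)).mp h2)

theorem killed_annIdeal : ClSub.KilledByIdeal (annIdeal F hF) F := fun U a ha m =>
  Module.mem_annihilator.mp (show a ∈ Module.annihilator Γ(X, U.1) Γ(F, U.1) from ha)
    (show Γ(F, U.1) from m)

theorem support_annIdeal : ((annIdeal F hF).support : Set X) = CohB1.support F := by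
  ext x
  obtain ⟨U, hU, hx⟩ := QCohLib.exists_affine_nhd x
  have := QCohLib.finite_of_isFT hF hU
  change x ∈ (annIdeal F hF).supportSet ↔ _
  rw [Scheme.IdealSheafData.mem_supportSet_iff_of_mem (U := ⟨U, hU⟩) hx,
    ← QCohLib.mem_support_iff hU hx, Module.support_eq_zeroLocus]
  have hb : ∀ r : Γ(X, U), x ∈ X.basicOpen r ↔ r ∉ (hU.primeIdealOf ⟨x, hx⟩).asIdeal := fun r => by
    have h' : hU.primeIdealOf ⟨x, hx⟩ ∈ hU.fromSpec ⁻¹ᵁ X.basicOpen r ↔ x ∈ X.basicOpen r := by
      change hU.fromSpec (hU.primeIdealOf ⟨x, hx⟩) ∈ X.basicOpen r ↔ _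
      rw [hU.fromSpec_primeIdealOf ⟨x, hx⟩]
    rw [← h', hU.fromSpec_preimage_basicOpen]
    rfl
  rw [Scheme.mem_zeroLocus_iff, PrimeSpectrum.mem_zeroLocus]
  exact ⟨fun h r hr => not_not.mp fun hn => h r hr ((hb r).mpr hn),
    fun h r hr hn => (hb r).mp hn (h hr)⟩

end DevissLib
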